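import Cfsg.Agent.Known.Unit.Field

/-!
Determinants of unitary matrices and the outer automorphism group of `PSU`.
-/

set_option autoImplicit false
set_option linter.unusedSectionVars false

namespace Cfsg.Lib.Unitary

open Matrix Cfsg.Lib.Classical

universe u

variable {F : Type u} [Field F] [Fintype F] {n q : ℕ}

local notation "Mn" => Matrix (Fin n) (Fin n) F
local notation "GLn" => GL (Fin n) F
local notation "SUn" => Cfsg.SU n F q
local notation "GUn" => Cfsg.GU n F q
local notation "Qn" => Cfsg.PSU n F q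

/-- The determinant of a unitary matrix. -/
noncomputable def guDet (hF : Fintype.card F = q ^ 2) : GUn →* N1 hF :=
  (Matrix.GeneralLinearGroup.det.comp (Cfsg.GU n F q).subtype).codRestrict (N1 hF) fun g => by
    rw [mem_N1]
    show ((g : GLn) : Mn).det * powConj hF ((g : GLn) : Mn).det = 1
    have h := congrArg Matrix.det ((UnitaryConj.mem_GU hF _).1 g.2)
    rw [det_mul, UnitaryConj.cst, det_transpose, ← RingHom.mapMatrix_apply, ← RingHom.map_det, det_one] at h
    rw [mul_comm]; exact h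

theorem coe_guDet (hF : Fintype.card F = q ^ 2) (g : GUn) :
    (((guDet hF g : N1 hF) : Fˣ) : F) = ((g : GLn) : Mn).det := rfl

/-- The diagonal matrix with one non-trivial entry. -/
noncomputable def dfst (hF : Fintype.card F = q ^ 2) (i0 : Fin n) : N1 hF →* GUn :=
  (({ toFun := fun u : N1 hF => (⟨Matrix.diagonal fun i => if i = i0 then ((u : Fˣ) : F) else 1,
        Matrix.diagonal fun i => if i = i0 then (((u : Fˣ)⁻¹ : Fˣ) : F) else 1,
        by rw [diagonal_mul_diagonal, ← diagonal_one]; exact congrArg diagonal (funext fun i => by split_ifs <;> simp),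
        by rw [diagonal_mul_diagonal, ← diagonal_one]
           exact congrArg diagonal (funext fun i => by split_ifs <;> simp)⟩ : GLn)
      map_one' := Units.ext (by
        show (Matrix.diagonal fun i => if i = i0 then (((1 : N1 hF) : Fˣ) : F) else 1) = 1
        rw [← diagonal_one]; exact congrArg diagonal (funext fun i => by split_ifs <;> simp))
      map_mul' := fun u v => Units.ext (by
        show (Matrix.diagonal fun i => if i = i0 then (((u * v : N1 hF) : Fˣ) : F) else 1) =
          (Matrix.diagonal fun i => if i = i0 then ((u : Fˣ) : F) else 1) *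
            (Matrix.diagonal fun i => if i = i0 then ((v : Fˣ) : F) else 1)
        rw [diagonal_mul_diagonal]; exact congrArg diagonal (funext fun i => by split_ifs <;> simp)) } :
    N1 hF →* GLn)).codRestrict (Cfsg.GU n F q) fun u => (UnitaryConj.mem_GU hF _).2 (by
      show UnitaryConj.cst (powConj hF) (Matrix.diagonal fun i => if i = i0 then ((u : Fˣ) : F) else 1) *
        (Matrix.diagonal fun i => if i = i0 then ((u : Fˣ) : F) else 1) = 1
      rw [UnitaryConj.cst, diagonal_map (map_zero _), diagonal_transpose, diagonal_mul_diagonal, ← diagonal_one]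
      refine congrArg diagonal (funext fun i => ?_)
      split_ifs
      · rw [mul_comm]; exact (mem_N1 hF u.1).1 u.2
      · rw [map_one, mul_one])

theorem guDet_dfst (hF : Fintype.card F = q ^ 2) (i0 : Fin n) (u : N1 hF) : guDet hF (dfst hF i0 u) = u :=
  Subtype.ext (Units.ext (by
    rw [coe_guDet]
    show (Matrix.diagonal fun i => if i = i0 then ((u : Fˣ) : F) else 1).det = _
    rw [det_diagonal, Finset.prod_ite_eq' Finset.univ i0 fun _ => ((u : Fˣ) : F), if_pos (Finset.mem_univ _)]))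

theorem guDet_suToGU (hF : Fintype.card F = q ^ 2) (s : SUn) : guDet hF (suToGU s) = 1 :=
  Subtype.ext (Units.ext ((coe_guDet hF _).trans (s : Matrix.SpecialLinearGroup (Fin n) F).2))

theorem exists_su_of_det (hF : Fintype.card F = q ^ 2) {g : GUn} (h : guDet hF g = 1) :
    ∃ s : SUn, g = suToGU s := by
  have hd : ((g : GLn) : Mn).det = 1 := by rw [← coe_guDet hF, h]; rfl
  exact ⟨⟨⟨((g : GLn) : Mn), hd⟩, g.2⟩, gu_ext rfl⟩

theorem guDet_scU (hF : Fintype.card F = q ^ 2) (u : N1 hF) : guDet hF (scU hF u : GUn) = u ^ n :=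
  Subtype.ext (Units.ext (by
    rw [coe_guDet, coe_scU, det_smul, det_one, mul_one, Fintype.card_fin, SubmonoidClass.coe_pow,
      Units.val_pow_eq_pow_val]))

theorem inn_eq_map (hF : Fintype.card F = q ^ 2) :
    Cfsg.Inn Qn = (guDet (n := n) hF).ker.map conjU := by
  ext y
  rw [inn_iff]
  constructor
  · rintro ⟨s, rfl⟩
    exact ⟨_, guDet_suToGU hF s, rfl⟩
  · rintro ⟨g, hg, rfl⟩
    obtain ⟨s, rfl⟩ := exists_su_of_det hF (g := g) hg
    exact ⟨s, rfl⟩

/-- Inner automorphisms among the semilinear ones. -/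
theorem mem_inn_iff (hF : Fintype.card F = q ^ 2) (hn : 3 ≤ n) (g : GUn) :
    (conjU g : MulAut Qn) ∈ Cfsg.Inn Qn ↔ guDet hF g ∈ (powMonoidHom n : N1 hF →* N1 hF).range := by
  rw [inn_iff]
  constructor
  · rintro ⟨s, hs⟩
    obtain ⟨u, hu⟩ := (conjU_eq_one_iff hF hn ((suToGU s)⁻¹ * g)).1 (by rw [map_mul, map_inv, hs, inv_mul_cancel])
    exact ⟨u, by
      rw [powMonoidHom_apply, ← guDet_scU, ← hu, map_mul, map_inv, guDet_suToGU, inv_one, one_mul]⟩
  · rintro ⟨u, hu⟩
    rw [powMonoidHom_apply] at hu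
    obtain ⟨s, hs⟩ := exists_su_of_det hF (g := (scU hF u)⁻¹ * g)
      (by rw [map_mul, map_inv, guDet_scU, hu, inv_mul_cancel])
    exact ⟨s, by rw [← hs, map_mul, map_inv, conjU_scU, inv_one, one_mul]⟩

theorem index_pow_range {A : Type*} [CommGroup A] [Finite A] [IsCyclic A] (d : ℕ) :
    (powMonoidHom d : A →* A).range.index = (Nat.card A).gcd d := by
  rw [Subgroup.index_range, IsCyclic.card_powMonoidHom_ker]

theorem exists_hom_out {p f : ℕ} [Fact p.Prime] (hf : 1 ≤ f) (hq : q = p ^ f) (hF : Fintype.card F = q ^ 2)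
    (hn : 3 ≤ n) (hs : ¬ (n = 3 ∧ q = 2)) :
    ∃ φ : Cfsg.Out Qn →* Multiplicative (ZMod (2 * f)), Function.Surjective φ ∧ IsCyclic φ.ker ∧
      Nat.card φ.ker = Nat.gcd n (q + 1) := by
  classical
  have := charP_of_card hq hF
  obtain ⟨hcyc, hcard⟩ := Known.FieldLight.ringAut_facts (F := F) p (2 * f) (by rw [hF, hq, ← pow_mul, mul_comm])
  choose g σ hσ using exists_decomp p hF hn (three_le_q hq hf hs)
  have huniq : ∀ (a b : GUn) (σ₁ σ₂ : F ≃+* F), (conjU a : MulAut Qn) * fieldU σ₁ = conjU b * fieldU σ₂ →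
      σ₁ = σ₂ := by
    intro a b σ₁ σ₂ h
    refine mul_inv_eq_one.1 (conjU_fieldU_eq_one hF hn (g := b⁻¹ * a) (σ := σ₁ * σ₂⁻¹) ?_).2
    calc conjU (b⁻¹ * a) * fieldU (σ₁ * σ₂⁻¹)
        = (conjU b)⁻¹ * ((conjU a : MulAut Qn) * fieldU σ₁) * (fieldU σ₂)⁻¹ := by
          rw [map_mul, map_inv, map_mul, map_inv]; group
      _ = 1 := by rw [h]; group
  let χ : MulAut Qn →* (F ≃+* F) := MonoidHom.mk' σ fun α β => huniq (g (α * β)) (g α * guAut (σ α) (g β)) _ _ (by
    rw [← hσ, map_mul, map_mul]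
    conv_lhs => rw [hσ α, hσ β]
    rw [mul_assoc, ← mul_assoc (fieldU (σ α)), fieldU_mul_conjU, mul_assoc, mul_assoc])
  have hχ : ∀ (a : GUn) (τ : F ≃+* F), χ (conjU a * fieldU τ) = τ := fun a τ =>
    huniq (g (conjU a * fieldU τ)) a _ _ (hσ _).symm
  have hχ0 : ∀ a : GUn, χ (conjU a) = 1 := fun a => by
    have := hχ a 1
    rwa [map_one, mul_one] at this
  have hInn : Cfsg.Inn Qn ≤ χ.ker := by
    intro y hy
    obtain ⟨s, rfl⟩ := (inn_iff y).1 hy
    exact hχ0 _
  let χ' : Cfsg.Out Qn →* (F ≃+* F) := QuotientGroup.lift (Cfsg.Inn Qn) χ hInn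
  let eF : (F ≃+* F) ≃* Multiplicative (ZMod (2 * f)) :=
    (zmodCyclicMulEquiv hcyc).symm.trans (AddEquiv.toMultiplicative (ZMod.ringEquivCongr hcard).toAddEquiv)
  let i0 : Fin n := ⟨0, by omega⟩
  let mk : MulAut Qn →* Cfsg.Out Qn := QuotientGroup.mk' (Cfsg.Inn Qn)
  let δ : N1 hF →* Cfsg.Out Qn := (mk.comp conjU).comp (dfst hF i0)
  refine ⟨eF.toMonoidHom.comp χ', eF.surjective.comp fun τ => ⟨mk (fieldU τ), ?_⟩, ?_⟩
  · have := hχ 1 τ
    rwa [map_one, one_mul] at this
  have hker : (eF.toMonoidHom.comp χ').ker = δ.range := by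
    ext o
    obtain ⟨α, rfl⟩ := QuotientGroup.mk_surjective o
    rw [MonoidHom.mem_ker, MonoidHom.comp_apply]
    refine eF.map_eq_one_iff.trans ?_
    constructor
    · intro h
      change σ α = 1 at h
      refine ⟨guDet hF (g α), ?_⟩
      have hα : α = conjU (g α) := by conv_lhs => rw [hσ α, h, map_one, mul_one]
      show mk (conjU (dfst hF i0 (guDet hF (g α)))) = mk α
      refine (QuotientGroup.eq (s := Cfsg.Inn Qn)).2 ?_
      rw [show (conjU (dfst hF i0 (guDet hF (g α))) : MulAut Qn)⁻¹ * α =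
        conjU ((dfst hF i0 (guDet hF (g α)))⁻¹ * g α) by rw [map_mul, map_inv, ← hα]]
      rw [mem_inn_iff hF hn, map_mul, map_inv, guDet_dfst, inv_mul_cancel]
      exact one_mem _
    · rintro ⟨u, hu⟩
      change mk (conjU (dfst hF i0 u)) = mk α at hu
      show χ' (mk α) = 1
      rw [← hu]
      exact hχ0 _
  rw [hker]
  refine ⟨isCyclic_of_surjective δ.rangeRestrict δ.rangeRestrict_surjective, ?_⟩
  have hδ : δ.ker = (powMonoidHom n : N1 hF →* N1 hF).range := by
    ext u
    rw [MonoidHom.mem_ker]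
    refine (QuotientGroup.eq_one_iff _).trans ?_
    show (conjU (dfst hF i0 u) : MulAut Qn) ∈ Cfsg.Inn Qn ↔ _
    rw [mem_inn_iff hF hn, guDet_dfst]
  rw [← Subgroup.index_ker, hδ, index_pow_range, card_N1, Nat.gcd_comm]

end Cfsg.Lib.Unitary
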