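import Cfsg.Agent.Known.Unit.Main
import Cfsg.Agent.Known.UnitaryGU
import Cfsg.Agent.Classical.Unitary.Matrix
import Cfsg.Prelude.Def_LieTypeDatum

/-!
Semilinear unitary maps acting on `PSU`, and the automorphism group.
-/

set_option autoImplicit false
set_option linter.unusedSectionVars false

namespace Cfsg.Lib.Unitary

open Matrix Cfsg.Lib.Classical

universe u

variable {F : Type u} [Field F] {n q : ℕ}

local notation "Mn" => Matrix (Fin n) (Fin n) F
local notation "GLn" => GL (Fin n) F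
local notation "SUn" => Cfsg.SU n F q
local notation "GUn" => Cfsg.GU n F q
local notation "Qn" => Cfsg.PSU n F q
local notation "πU" => QuotientGroup.mk' (Subgroup.center (Cfsg.SU n F q))

/-- The matrix of an element of `SU`. -/
abbrev smat (s : SUn) : Mn := ((s : Matrix.SpecialLinearGroup (Fin n) F) : Mn)

theorem su_ext {s t : SUn} (h : smat s = smat t) : s = t := Subtype.ext (Subtype.ext h)

theorem smat_mul (s t : SUn) : smat (s * t) = smat s * smat t := rfl

theorem gu_ext {g h : GUn} (e : ((g : GLn) : Mn) = ((h : GLn) : Mn)) : g = h := Subtype.ext (Units.ext e)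

theorem gu_form (g : GUn) (u v : Fin n → F) :
    Cfsg.hermForm n F q (((g : GLn) : Mn) *ᵥ u) (((g : GLn) : Mn) *ᵥ v) = Cfsg.hermForm n F q u v := g.2 u v

/-- Special unitary matrices are unitary. -/
noncomputable def suToGU : SUn →* GUn where
  toFun s := ⟨Matrix.SpecialLinearGroup.toGL (s : Matrix.SpecialLinearGroup (Fin n) F), s.2⟩
  map_one' := gu_ext rfl
  map_mul' _ _ := gu_ext rfl

theorem coe_suToGU (s : SUn) : (((suToGU s : GUn) : GLn) : Mn) = smat s := rfl

/-- Conjugation of `SU` by unitary matrices. -/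
noncomputable def conjFun (g : GUn) (s : SUn) : SUn :=
  ⟨⟨(((g * suToGU s * g⁻¹ : GUn) : GLn) : Mn), by
      show (((g : GLn) : Mn) * smat s * (((g : GLn)⁻¹ : GLn) : Mn)).det = 1
      have h : (smat s).det = 1 := (s : Matrix.SpecialLinearGroup (Fin n) F).2
      rw [det_mul, det_mul, h, mul_one, ← det_mul, Units.mul_inv, det_one]⟩,
    (g * suToGU s * g⁻¹).2⟩

theorem suToGU_conjFun (g : GUn) (s : SUn) : suToGU (conjFun g s) = g * suToGU s * g⁻¹ := gu_ext rfl

theorem suToGU_injective : Function.Injective (suToGU (n := n) (F := F) (q := q)) := fun _ _ h =>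
  su_ext (congrArg (fun g : GUn => ((g : GLn) : Mn)) h)

/-- Conjugation of `SU` by unitary matrices. -/
noncomputable def conjSU : GUn →* MulAut SUn where
  toFun g :=
    { toFun := conjFun g
      invFun := conjFun g⁻¹
      left_inv := fun s => suToGU_injective (by rw [suToGU_conjFun, suToGU_conjFun]; group)
      right_inv := fun s => suToGU_injective (by rw [suToGU_conjFun, suToGU_conjFun]; group)
      map_mul' := fun s t => suToGU_injective (by
        rw [suToGU_conjFun, map_mul, map_mul, suToGU_conjFun, suToGU_conjFun]; group) }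
  map_one' := MulEquiv.ext fun s => suToGU_injective (by
    show suToGU (conjFun 1 s) = suToGU s
    rw [suToGU_conjFun]; group)
  map_mul' g h := MulEquiv.ext fun s => suToGU_injective (by
    show suToGU (conjFun (g * h) s) = suToGU (conjFun g (conjFun h s))
    rw [suToGU_conjFun, suToGU_conjFun, suToGU_conjFun]; group)

theorem coe_conjSU (g : GUn) (s : SUn) :
    smat (conjSU g s) = ((g : GLn) : Mn) * smat s * (((g : GLn)⁻¹ : GLn) : Mn) := rfl

theorem map_preserves (σ : F ≃+* F) {A : Mn}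
    (h : ∀ u v, Cfsg.hermForm n F q (A *ᵥ u) (A *ᵥ v) = Cfsg.hermForm n F q u v) (u v : Fin n → F) :
    Cfsg.hermForm n F q (A.map σ *ᵥ u) (A.map σ *ᵥ v) = Cfsg.hermForm n F q u v := by
  have e : ∀ w : Fin n → F, A.map σ *ᵥ w = σ ∘ (A *ᵥ (σ.symm ∘ w)) := fun w => by
    funext i; simp [mulVec, dotProduct, map_sum]
  have e2 : ∀ a b : Fin n → F, Cfsg.hermForm n F q (σ ∘ a) (σ ∘ b) = σ (Cfsg.hermForm n F q a b) := fun a b => by
    simp [Cfsg.hermForm, map_sum]
  rw [e, e, e2, h, ← e2]
  congr 1 <;> funext i <;> simp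

/-- Field automorphisms of `SU`. -/
noncomputable def fieldSU : (F ≃+* F) →* MulAut SUn where
  toFun σ :=
    { toFun := fun s => ⟨Matrix.SpecialLinearGroup.map (σ : F →+* F) (s : Matrix.SpecialLinearGroup (Fin n) F),
        map_preserves σ s.2⟩
      invFun := fun s => ⟨Matrix.SpecialLinearGroup.map (σ.symm : F →+* F) (s : Matrix.SpecialLinearGroup (Fin n) F),
        map_preserves σ.symm s.2⟩
      left_inv := fun s => su_ext (Matrix.ext fun i j => σ.symm_apply_apply _)
      right_inv := fun s => su_ext (Matrix.ext fun i j => σ.apply_symm_apply _)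
      map_mul' := fun s t => Subtype.ext (map_mul _ _ _) }
  map_one' := MulEquiv.ext fun s => su_ext (Matrix.ext fun i j => rfl)
  map_mul' _ _ := MulEquiv.ext fun s => su_ext (Matrix.ext fun i j => rfl)

theorem coe_fieldSU (σ : F ≃+* F) (s : SUn) : smat (fieldSU σ s) = (smat s).map σ := rfl

/-- Field automorphisms of `GU`. -/
noncomputable def guAut : (F ≃+* F) →* MulAut GUn where
  toFun σ :=
    { toFun := fun g => ⟨Matrix.GeneralLinearGroup.map (σ : F →+* F) (g : GLn), map_preserves σ (gu_form g)⟩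
      invFun := fun g => ⟨Matrix.GeneralLinearGroup.map (σ.symm : F →+* F) (g : GLn), map_preserves σ.symm (gu_form g)⟩
      left_inv := fun g => gu_ext (Matrix.ext fun i j => σ.symm_apply_apply _)
      right_inv := fun g => gu_ext (Matrix.ext fun i j => σ.apply_symm_apply _)
      map_mul' := fun g h => Subtype.ext (map_mul _ _ _) }
  map_one' := MulEquiv.ext fun g => gu_ext (Matrix.ext fun i j => rfl)
  map_mul' _ _ := MulEquiv.ext fun g => gu_ext (Matrix.ext fun i j => rfl)

theorem coe_guAut (σ : F ≃+* F) (g : GUn) :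
    (((guAut σ g : GUn) : GLn) : Mn) = ((g : GLn) : Mn).map σ := rfl

/-- Passing to the central quotient. -/
noncomputable def liftU : MulAut SUn →* MulAut Qn where
  toFun a := QuotientGroup.congr _ _ a (Subgroup.characteristic_iff_map_eq.1 inferInstance a)
  map_one' := MulEquiv.ext fun x => QuotientGroup.induction_on x fun _ => rfl
  map_mul' a b := MulEquiv.ext fun x => QuotientGroup.induction_on x fun _ => rfl

/-- Conjugation of `PSU` by unitary matrices. -/
noncomputable def conjU : GUn →* MulAut Qn := liftU.comp conjSU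

/-- Field automorphisms of `PSU`. -/
noncomputable def fieldU : (F ≃+* F) →* MulAut Qn := liftU.comp fieldSU

theorem conjU_apply (g : GUn) (s : SUn) : conjU g (πU s) = πU (conjSU g s) := rfl

theorem fieldU_apply (σ : F ≃+* F) (s : SUn) : fieldU σ (πU s) = πU (fieldSU σ s) := rfl

theorem fieldU_mul_conjU (σ : F ≃+* F) (g : GUn) :
    (fieldU σ : MulAut Qn) * conjU g = conjU (guAut σ g) * fieldU σ := by
  refine MulEquiv.ext fun x => QuotientGroup.induction_on x fun s => congrArg πU (su_ext ?_)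
  show smat (fieldSU σ (conjSU g s)) = smat (conjSU (guAut σ g) (fieldSU σ s))
  rw [coe_fieldSU, coe_conjSU, coe_conjSU, coe_fieldSU, Matrix.map_mul, Matrix.map_mul, coe_guAut]
  rfl

theorem eq_fieldU {σ : F ≃+* F} {φ : MulAut Qn} (h : Cfsg.IsFieldAutPSUOf σ φ) : φ = fieldU σ :=
  MulEquiv.ext fun x => QuotientGroup.induction_on x fun s => h s (fieldSU σ s) (coe_fieldSU σ s)

theorem isFieldAut_fieldU (σ : F ≃+* F) : Cfsg.IsFieldAutPSUOf σ (fieldU σ : MulAut Qn) := fun s s' h =>
  congrArg πU (su_ext (h.trans (coe_fieldSU σ s).symm).symm : fieldSU σ s = s')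

theorem induced_iff {g : GUn} {σ : F ≃+* F} {β : MulAut Qn} :
    Cfsg.IsInducedBySemilinearPSU (g : GLn) σ β ↔ β = conjU g * fieldU σ := by
  constructor
  · intro h
    refine MulEquiv.ext fun x => QuotientGroup.induction_on x fun s => ?_
    exact h s (conjSU g (fieldSU σ s)) (by
      show smat (conjSU g (fieldSU σ s)) = _
      rw [coe_conjSU, coe_fieldSU])
  · rintro rfl s s' h
    exact congrArg πU (su_ext (show smat (conjSU g (fieldSU σ s)) = smat s' by rw [coe_conjSU, coe_fieldSU]; exact h.symm))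

theorem innerDiag_iff {β : MulAut Qn} : Cfsg.IsInnerDiagonalAutPSU β ↔ ∃ g : GUn, β = conjU g := by
  constructor
  · rintro ⟨g, hg, h⟩
    refine ⟨⟨g, hg⟩, MulEquiv.ext fun x => QuotientGroup.induction_on x fun s => ?_⟩
    exact h s (conjSU ⟨g, hg⟩ s) rfl
  · rintro ⟨g, rfl⟩
    exact ⟨(g : GLn), g.2, fun s s' h => congrArg πU (su_ext h.symm : conjSU g s = s')⟩

theorem inndiag_eq : Cfsg.inndiagPSU n F q = (conjU : GUn →* MulAut Qn).range := by
  refine le_antisymm ((Subgroup.closure_le _).2 ?_) ?_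
  · intro β hβ
    obtain ⟨g, rfl⟩ := innerDiag_iff.1 hβ
    exact ⟨g, rfl⟩
  · rintro _ ⟨g, rfl⟩
    exact Subgroup.subset_closure (innerDiag_iff.2 ⟨g, rfl⟩)

theorem conjU_suToGU (s : SUn) : conjU (suToGU s) = MulAut.conj (πU s) := by
  refine MulEquiv.ext fun x => QuotientGroup.induction_on x fun t => ?_
  show πU (conjSU (suToGU s) t) = πU s * πU t * (πU s)⁻¹
  rw [← map_inv, ← map_mul, ← map_mul]
  refine congrArg πU (suToGU_injective ?_)
  show suToGU (conjFun (suToGU s) t) = _
  rw [suToGU_conjFun, map_mul, map_mul, map_inv]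

theorem inn_iff (g : MulAut Qn) : g ∈ Cfsg.Inn Qn ↔ ∃ s : SUn, g = conjU (suToGU s) := by
  constructor
  · rintro ⟨y, rfl⟩
    obtain ⟨s, rfl⟩ := QuotientGroup.mk_surjective y
    exact ⟨s, (conjU_suToGU s).symm⟩
  · rintro ⟨s, rfl⟩
    exact ⟨πU s, (conjU_suToGU s).symm⟩

/-- Every automorphism of `PSU` is a semilinear unitary one. -/
theorem exists_decomp [Fintype F] (p : ℕ) [Fact p.Prime] [CharP F p] (hF : Fintype.card F = q ^ 2) (hn : 3 ≤ n)
    (hs : n = 3 → 3 ≤ q) (β : MulAut Qn) : ∃ (g : GUn) (σ : F ≃+* F), β = conjU g * fieldU σ := by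
  classical
  set H := stdHerm n hF with hH
  let E := suEquiv n hF
  let Φ : Pu H ≃* Qn := QuotientGroup.congr (Subgroup.center H.SIsom) (Subgroup.center SUn) E (by
    ext z
    rw [Subgroup.mem_map, Subgroup.mem_center_iff]
    constructor
    · rintro ⟨y, hy, rfl⟩ x
      obtain ⟨x, rfl⟩ := E.surjective x
      show E x * E y = E y * E x
      rw [← map_mul, ← map_mul, Subgroup.mem_center_iff.1 hy x]
    · intro hz
      refine ⟨E.symm z, Subgroup.mem_center_iff.2 fun x => E.injective ?_, E.apply_symm_apply z⟩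
      rw [map_mul, map_mul, E.apply_symm_apply]
      exact hz _)
  have hd : Module.finrank F (Fin n → F) = n := Module.finrank_fin_fun F
  obtain ⟨τ, Ψ, hadd, hsmul, hform, hβ⟩ := exists_semilinear p (H := H) (by rw [hd]; exact hn)
    (by rw [hd, hH, stdHerm_q]; exact hs) (Φ.trans (β.trans Φ.symm))
  let M : Mn := Matrix.of fun i j => Ψ (Pi.single j 1) i
  have hΨ : ∀ x, Ψ x = M *ᵥ (τ ∘ x) := by
    intro x
    let Ψ' : (Fin n → F) →+ (Fin n → F) := AddMonoidHom.mk' Ψ hadd
    show Ψ' x = _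
    conv_lhs => rw [pi_eq_sum_univ' x]
    rw [map_sum]
    funext i
    rw [Finset.sum_apply]
    simp only [mulVec, dotProduct, M, Matrix.of_apply, Function.comp_apply]
    refine Finset.sum_congr rfl fun j _ => ?_
    show Ψ (x j • _) i = _
    rw [hsmul, Pi.smul_apply, smul_eq_mul, mul_comm]
  have hMp : ∀ u v, Cfsg.hermForm n F q (M *ᵥ u) (M *ᵥ v) = Cfsg.hermForm n F q u v := by
    intro u v
    have hu : ∀ w : Fin n → F, τ ∘ (τ.symm ∘ w) = w := fun w => funext fun i => τ.apply_symm_apply _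
    have h1 := hform (τ.symm ∘ u) (τ.symm ∘ v)
    rw [hΨ, hΨ, hu, hu, hH, stdHerm_h, stdHerm_h] at h1
    rw [h1, Cfsg.hermForm, Cfsg.hermForm, map_sum]
    simp
  obtain ⟨g, hg⟩ := UnitaryConj.exists_GU_of hF M ((UnitaryConj.preserves_iff hF M).1 hMp)
  refine ⟨g, τ, MulEquiv.ext fun x => QuotientGroup.induction_on x fun s => ?_⟩
  show β (πU s) = conjU g (fieldU τ (πU s))
  rw [fieldU_apply, conjU_apply]
  set s' := conjSU g (fieldSU τ s) with hs'
  have hc : ∀ (t : SUn) (x : Fin n → F), (E.symm t).1.1 x = smat t *ᵥ x := fun t x => by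
    conv_rhs => rw [← E.apply_symm_apply t, smat, suEquiv_coe, unitToGL_mulVec]
  have key := hβ (E.symm s) (E.symm s') fun x => by
    rw [hc, hc, hΨ, hΨ, hs', coe_conjSU, coe_fieldSU, hg, mulVec_mulVec, Matrix.mul_assoc, Matrix.mul_assoc]
    rw [show (((g : GLn)⁻¹ : GLn) : Mn) * M = 1 by rw [← hg, Units.inv_mul], Matrix.mul_one, ← mulVec_mulVec]
    congr 1
    funext i
    simp [mulVec, dotProduct, map_sum]
  have e : ∀ t : SUn, Φ (pr H (E.symm t)) = πU t := fun t => congrArg πU (E.apply_symm_apply t)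
  have key' := congrArg Φ key
  change Φ (Φ.symm (β (Φ (pr H (E.symm s))))) = _ at key'
  rw [Φ.apply_symm_apply, e, e] at key'
  exact key'

theorem gamma_eq_top [Fintype F] (p : ℕ) [Fact p.Prime] [CharP F p] (hF : Fintype.card F = q ^ 2) (hn : 3 ≤ n)
    (hs : n = 3 → 3 ≤ q) : Cfsg.gammaPSU n F q = ⊤ := by
  rw [eq_top_iff]
  rintro α -
  obtain ⟨g, σ, rfl⟩ := exists_decomp p hF hn hs α
  exact Subgroup.subset_closure ⟨(g : GLn), σ, g.2, induced_iff.2 rfl⟩

theorem charP_of_card [Fintype F] {p f : ℕ} [Fact p.Prime] (hq : q = p ^ f) (hF : Fintype.card F = q ^ 2) :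
    CharP F p := by
  obtain ⟨c, hc⟩ := CharP.exists F
  obtain ⟨e, hcp, he⟩ := FiniteField.card F c
  have h1 : c ∣ p ^ (f * 2) := by rw [pow_mul, ← hq, ← hF, he]; exact dvd_pow_self c e.ne_zero
  exact (Nat.prime_dvd_prime_iff_eq hcp Fact.out).1 (hcp.dvd_of_dvd_pow h1) ▸ hc

theorem three_le_q {p f : ℕ} [Fact p.Prime] (hq : q = p ^ f) (hf : 1 ≤ f) (hs : ¬ (n = 3 ∧ q = 2)) :
    n = 3 → 3 ≤ q := fun hn => by
  have h2 : 2 ≤ q := hq ▸ (Fact.out : p.Prime).two_le.trans (Nat.le_self_pow (by omega) p)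
  have : q ≠ 2 := fun h => hs ⟨hn, h⟩
  omega

end Cfsg.Lib.Unitary
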