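import Cfsg.Agent.Known.Unit.Sylow

/-!
The Siegel translations fixing an isotropic point, characterised inside `PSU`, and point maps of automorphisms.
-/

set_option autoImplicit false
set_option linter.unusedSectionVars false

namespace Cfsg.Lib.Unitary

open Cfsg.Lib.Classical

universe u v

variable {F : Type u} [Field F] [Fintype F] {V : Type v} [AddCommGroup V] [Module F V] [FiniteDimensional F V]
  (H : HermSpace F V)

/-- A hyperbolic pair, normalised by `h f e = 1`. -/
structure Frame where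
  e : V
  f : V
  he : H.h e e = 0
  hf : H.h f f = 0
  hfe : H.h f e = 1

variable {H}

namespace Frame

variable (P : Frame H)

theorem hef : H.h P.e P.f = 1 := by rw [H.symm, P.hfe, map_one]

theorem e_ne : P.e ≠ 0 := fun h => by
  have := P.hef
  rw [h, H.zero_left] at this
  exact zero_ne_one this

theorem f_ne : P.f ≠ 0 := fun h => by
  have := P.hfe
  rw [h, H.zero_left] at this
  exact zero_ne_one this

/-- The orthogonal of the pair. -/
def W : Submodule F V := H.orth (Submodule.span F {P.e, P.f})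

theorem mem_W {w : V} : w ∈ P.W ↔ H.h w P.e = 0 ∧ H.h w P.f = 0 := by
  rw [W, H.mem_orth_span]
  simp

/-- The projection on the orthogonal. -/
def proj (x : V) : V := x - H.h x P.f • P.e - H.h x P.e • P.f

theorem proj_mem (x : V) : P.proj x ∈ P.W := by
  rw [P.mem_W, proj, H.sub_left, H.sub_left, H.sub_left, H.sub_left, H.smul_left, H.smul_left, H.smul_left,
    H.smul_left, P.he, P.hef, P.hf, P.hfe]
  constructor <;> ring

theorem decomp (x : V) : x = H.h x P.f • P.e + H.h x P.e • P.f + P.proj x := by rw [proj]; module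

theorem proj_eq_self {w : V} (hw : w ∈ P.W) : P.proj w = w := by
  obtain ⟨h1, h2⟩ := P.mem_W.1 hw
  rw [proj, h1, h2, zero_smul, zero_smul, sub_zero, sub_zero]

theorem ext_frame {S T : V →ₗ[F] V} (he : S P.e = T P.e) (hf : S P.f = T P.f) (hW : ∀ w ∈ P.W, S w = T w) (x : V) :
    S x = T x := by
  rw [P.decomp x, map_add, map_add, map_add, map_add, map_smul, map_smul, map_smul, map_smul, he, hf,
    hW _ (P.proj_mem x)]

theorem finrank_W : Module.finrank F P.W = Module.finrank F V - 2 := by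
  rw [W, H.finrank_orth, H.finrank_hyperbolic P.he P.hef]

theorem nondeg_W : H.NondegOn P.W := H.nondegOn_orth (H.nondegOn_hyperbolic P.he P.hef)

/-- Admissible parameters of a translation. -/
def Valid (w : V) (a : F) : Prop := w ∈ P.W ∧ a + H.σ a = -H.h w w

/-- The isotropic point of a translation. -/
def pt (w : V) (a : F) : V := P.f + w + a • P.e

/-- The translation. -/
noncomputable def sg {w : V} {a : F} (h : P.Valid w a) : H.SIsom :=
  ⟨H.siegel P.he (P.mem_W.1 h.1).1 h.2, H.siegel_mem_SIsom P.he (P.mem_W.1 h.1).1 h.2⟩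

theorem sg_apply {w : V} {a : F} (h : P.Valid w a) (x : V) :
    (P.sg h).1.1 x = x + H.h x P.e • w + (a * H.h x P.e - H.h x w) • P.e := H.siegel_apply P.he (P.mem_W.1 h.1).1 h.2 x

theorem sg_e {w : V} {a : F} (h : P.Valid w a) : (P.sg h).1.1 P.e = P.e := by
  rw [sg_apply, P.he, H.eq_zero_symm (P.mem_W.1 h.1).1, mul_zero, sub_zero, zero_smul, zero_smul, add_zero,
    add_zero]

theorem sg_f {w : V} {a : F} (h : P.Valid w a) : (P.sg h).1.1 P.f = P.pt w a := by
  rw [sg_apply, P.hfe, H.eq_zero_symm (P.mem_W.1 h.1).2, mul_one, sub_zero, one_smul, pt]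

theorem pt_iso {w : V} {a : F} (h : P.Valid w a) : H.h (P.pt w a) (P.pt w a) = 0 := by
  rw [← P.sg_f h]; exact iso_map H _ P.hf

theorem pt_e {w : V} {a : F} (h : P.Valid w a) : H.h (P.pt w a) P.e = 1 := by
  rw [pt, H.add_left, H.add_left, H.smul_left, P.hfe, P.he, (P.mem_W.1 h.1).1, mul_zero, add_zero, add_zero]

theorem pt_ne {w : V} {a : F} (h : P.Valid w a) : P.pt w a ≠ 0 := fun h0 => by
  have := P.pt_e h
  rw [h0, H.zero_left] at this
  exact zero_ne_one this

theorem pt_inj {w w' : V} {a a' : F} (h : w ∈ P.W) (h' : w' ∈ P.W) (e : P.pt w a = P.pt w' a') :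
    w = w' ∧ a = a' := by
  have h1 := congrArg (fun x => H.h x P.f) e
  simp only [pt, H.add_left, H.smul_left, P.hf, P.hef, (P.mem_W.1 h).2, (P.mem_W.1 h').2, zero_add, mul_one] at h1
  subst h1
  rw [pt, pt, add_left_inj, add_right_inj] at e
  exact ⟨e, rfl⟩

theorem exists_valid {w : V} (hw : w ∈ P.W) : ∃ a : F, P.Valid w a := by
  obtain ⟨θ, hθ⟩ := H.conj.exists_trace_one
  exact ⟨-(θ * H.h w w), hw, by
    rw [map_neg, map_mul, H.self_fixed]
    linear_combination (-H.h w w) * hθ⟩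

theorem valid_zero : P.Valid 0 0 := ⟨zero_mem _, by rw [map_zero, H.zero_left, add_zero, neg_zero]⟩

theorem valid_mul {w u : V} {a b : F} (h : P.Valid w a) (h' : P.Valid u b) :
    P.Valid (w + u) (a + b - H.h u w) := by
  refine ⟨add_mem h.1 h'.1, ?_⟩
  rw [map_sub, map_add, ← H.symm w u, H.add_left, H.add_right, H.add_right]
  linear_combination h.2 + h'.2

theorem sg_mul {w u : V} {a b : F} (h : P.Valid w a) (h' : P.Valid u b) :
    P.sg h * P.sg h' = P.sg (P.valid_mul h h') := by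
  refine Subtype.ext (H.isom_ext fun x => ?_)
  show (P.sg h).1.1 ((P.sg h').1.1 x) = _
  rw [sg_apply, sg_apply, sg_apply]
  simp only [H.add_left, H.smul_left, H.add_right, (P.mem_W.1 h'.1).1, P.he, H.eq_zero_symm (P.mem_W.1 h.1).1,
    mul_zero, add_zero]
  module

theorem sg_congr {w u : V} {a b : F} (h : P.Valid w a) (h' : P.Valid u b) (e1 : w = u) (e2 : a = b) :
    P.sg h = P.sg h' := by subst e1; subst e2; rfl

theorem sg_zero : P.sg P.valid_zero = 1 := by
  refine Subtype.ext (H.isom_ext fun x => ?_)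
  rw [sg_apply, H.zero_right, smul_zero, add_zero, zero_mul, sub_zero, zero_smul, add_zero]
  rfl

theorem sg_eq_tr {a : F} (h : P.Valid 0 a) (ha : a + H.σ a = 0) : P.sg h = tr H P.he ha := by
  refine Subtype.ext (H.isom_ext fun x => ?_)
  rw [sg_apply, tr_apply, H.zero_right, smul_zero, add_zero, sub_zero]

theorem pr_sg_inj (hd : 2 ≤ Module.finrank F V) {w u : V} {a b : F} {h : P.Valid w a} {h' : P.Valid u b}
    (e : pr H (P.sg h) = pr H (P.sg h')) : w = u ∧ a = b := by
  obtain ⟨z, hz, e⟩ := (pr_eq_iff H).1 e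
  obtain ⟨c, -, hzc⟩ := center_scalar H hd hz
  have e1 := congrArg (fun g : H.SIsom => g.1.1 P.e) e
  change (P.sg h).1.1 (z.1.1 P.e) = (P.sg h').1.1 P.e at e1
  rw [hzc, map_smul, sg_e, sg_e] at e1
  have hc1 : c = 1 := smul_left_injective F P.e_ne (e1.trans (one_smul F P.e).symm)
  have e2 := congrArg (fun g : H.SIsom => g.1.1 P.f) e
  change (P.sg h).1.1 (z.1.1 P.f) = (P.sg h').1.1 P.f at e2
  rw [hzc, hc1, one_smul, sg_f, sg_f] at e2
  exact P.pt_inj h.1 h'.1 e2

variable (p : ℕ) [Fact p.Prime] [CharP F p]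

theorem sg_pow_p {w : V} {a : F} (h : P.Valid w a) : ∃ k : ℕ, (P.sg h) ^ p ^ k = 1 := by
  have key : ∀ k : ℕ, ∃ (b : F) (hb : P.Valid ((k : F) • w) b), (P.sg h) ^ k = P.sg hb ∧
      (w = 0 → b = (k : F) * a) := by
    intro k
    induction k with
    | zero =>
      refine ⟨0, ?_, ?_, fun _ => by simp⟩
      · simpa using P.valid_zero
      · rw [pow_zero, ← P.sg_zero]
        exact P.sg_congr _ _ (by simp) rfl
    | succ k ih =>
      obtain ⟨b, hb, e, hw⟩ := ih
      have hv := P.valid_mul hb h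
      have e1 : (k : F) • w + w = ((k + 1 : ℕ) : F) • w := by push_cast; rw [add_smul, one_smul]
      rw [e1] at hv
      refine ⟨_, hv, ?_, fun h0 => ?_⟩
      · rw [pow_succ, e, P.sg_mul]
        exact P.sg_congr _ _ e1 rfl
      · rw [hw h0, h0, H.zero_left, sub_zero]; push_cast; ring
  obtain ⟨b, hb, e, -⟩ := key p
  refine ⟨2, ?_⟩
  rw [pow_two, pow_mul, e]
  have h0 : (p : F) • w = 0 := by rw [CharP.cast_eq_zero F p, zero_smul]
  have key' : ∀ k : ℕ, ∃ (c : F) (hc : P.Valid 0 c), (P.sg hb) ^ k = P.sg hc ∧ c = (k : F) * b := by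
    intro k
    induction k with
    | zero => exact ⟨0, P.valid_zero, by rw [pow_zero, P.sg_zero], by simp⟩
    | succ k ih =>
      obtain ⟨c, hc, e', hcb⟩ := ih
      have hv := P.valid_mul hc hb
      have e1 : (0 : V) + (p : F) • w = 0 := by rw [zero_add, h0]
      rw [e1] at hv
      refine ⟨_, hv, ?_, ?_⟩
      · rw [pow_succ, e', P.sg_mul]
        exact P.sg_congr _ _ e1 rfl
      · rw [hcb, h0, H.zero_left, sub_zero]; push_cast; ring
  obtain ⟨c, hc, e', hcb⟩ := key' p
  rw [e', ← P.sg_zero]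
  exact P.sg_congr _ _ rfl (by rw [hcb, CharP.cast_eq_zero F p, zero_mul])

/-- The property characterising translations in `PSU`. -/
def IsTrans (x : Pu H) : Prop :=
  (∃ k : ℕ, x ^ p ^ k = 1) ∧ (R H P.e).map (MulAut.conj x).toMonoidHom = R H P.e ∧
    ∀ y z : V, y ≠ 0 → H.h y y = 0 → H.h y P.e = 0 → z ≠ 0 → H.h z z = 0 →
      (R H y).map (MulAut.conj x).toMonoidHom = R H z → z ∈ Submodule.span F {P.e, y}

theorem isTrans_sg (hd : 3 ≤ Module.finrank F V) {w : V} {a : F} (h : P.Valid w a) :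
    P.IsTrans p (pr H (P.sg h)) := by
  refine ⟨?_, ?_, ?_⟩
  · obtain ⟨k, hk⟩ := P.sg_pow_p p h
    exact ⟨k, by rw [← map_pow, hk, map_one]⟩
  · rw [R_map_conj H _ P.he, sg_e]
  · intro y z _ hy hye hz0 hz e
    rw [R_map_conj H _ hy] at e
    obtain ⟨c, hc⟩ := Submodule.mem_span_singleton.1 (eq_of_R H hd hz0 hz (iso_map H _ hy) e.ge)
    rw [← hc, sg_apply, hye, zero_smul, add_zero, mul_zero, zero_sub]
    exact Submodule.smul_mem _ _ (add_mem (Submodule.subset_span (by simp))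
      (Submodule.smul_mem _ _ (Submodule.subset_span (by simp))))

include p in
theorem exists_of_isTrans (hd : 3 ≤ Module.finrank F V) {x : Pu H} (hx : P.IsTrans p x) :
    ∃ (w : V) (a : F) (h : P.Valid w a), x = pr H (P.sg h) := by
  obtain ⟨⟨k, hk⟩, hRe, hline⟩ := hx
  obtain ⟨g0, rfl⟩ := pr_surjective H x
  rw [← map_pow, pr_eq_one] at hk
  have hcop : (Nat.card (Subgroup.center H.SIsom)).Coprime (p ^ k) := by
    rw [H.card_center_SIsom (by omega), Nat.coprime_comm]
    refine Nat.Coprime.pow_left _ ((Nat.Prime.coprime_iff_not_dvd Fact.out).2 fun h => ?_)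
    exact (Fact.out : p.Prime).ne_one (Nat.dvd_one.1
      ((Nat.dvd_add_right (dvd_q H p)).1 (h.trans (Nat.gcd_dvd_right _ _))))
  obtain ⟨z, hz⟩ := (powCoprime hcop).surjective ⟨_, hk⟩
  set g : H.SIsom := g0 * (z : H.SIsom)⁻¹ with hg
  have hgk : g ^ p ^ k = 1 := by
    have hz' : (z : H.SIsom) ^ p ^ k = g0 ^ p ^ k := congrArg Subtype.val hz
    have hc : Commute g0 (z : H.SIsom)⁻¹ := Subgroup.mem_center_iff.1 (inv_mem z.2) g0
    rw [hg, hc.mul_pow, inv_pow, hz', mul_inv_cancel]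
  have hpr : pr H g = pr H g0 := by
    rw [hg, map_mul, map_inv, (pr_eq_one H).2 z.2, inv_one, mul_one]
  rw [← hpr] at hRe hline ⊢
  have hroot : ∀ c : F, c ^ p ^ k = 1 → c = 1 := fun c hc => by
    have : (c - 1) ^ p ^ k = 0 := by rw [sub_pow_char_pow, hc, one_pow, sub_self]
    exact sub_eq_zero.1 ((pow_eq_zero_iff (pow_ne_zero _ (Fact.out : p.Prime).ne_zero)).1 this)
  have hfin : ∀ x : V, (g ^ p ^ k).1.1 x = x := fun x => by rw [hgk]; rfl
  obtain ⟨a0, ha0⟩ := Submodule.mem_span_singleton.1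
    (eq_of_R H hd (H.isom_ne_zero g.1 P.e_ne) (iso_map H g P.he) P.he (by rw [← R_map_conj H g P.he, hRe]))
  have hge : g.1.1 P.e = P.e := by
    have hj : ∀ j : ℕ, (g ^ j).1.1 P.e = a0 ^ j • P.e := by
      intro j
      induction j with
      | zero => rw [pow_zero, pow_zero, one_smul]; rfl
      | succ j ih =>
        rw [pow_succ']
        show g.1.1 ((g ^ j).1.1 P.e) = _
        rw [ih, map_smul, ← ha0, smul_smul, ← pow_succ]
    have := (hj (p ^ k)).symm.trans (hfin P.e)
    rw [← ha0, hroot a0 (smul_left_injective F P.e_ne (this.trans (one_smul F P.e).symm)), one_smul]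
  have hW : ∀ w ∈ P.W, g.1.1 w ∈ Submodule.span F {P.e, w} → ∃ γ : F, g.1.1 w = w + γ • P.e := by
    intro w hw hm
    obtain ⟨γ, β, hγ⟩ := Submodule.mem_span_pair.1 hm
    have hj : ∀ j : ℕ, ∃ γj : F, (g ^ j).1.1 w = γj • P.e + β ^ j • w := by
      intro j
      induction j with
      | zero => exact ⟨0, by rw [pow_zero, pow_zero, one_smul, zero_smul, zero_add]; rfl⟩
      | succ j ih =>
        obtain ⟨γj, e⟩ := ih
        refine ⟨γj + β ^ j * γ, ?_⟩
        rw [pow_succ']
        show g.1.1 ((g ^ j).1.1 w) = _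
        rw [e, map_add, map_smul, map_smul, hge, ← hγ, pow_succ]
        module
    obtain ⟨γk, e⟩ := hj (p ^ k)
    rw [hfin] at e
    rcases eq_or_ne w 0 with rfl | hw0
    · exact ⟨0, by simp⟩
    have h1 := congrArg (fun x => H.h x P.f) e
    simp only [H.add_left, H.smul_left, (P.mem_W.1 hw).2, P.hef, mul_one, mul_zero, add_zero] at h1
    rw [← h1, zero_smul, zero_add] at e
    have hβ : β = 1 := hroot β (smul_left_injective F hw0 (e.symm.trans (one_smul F w).symm))
    exact ⟨γ, by rw [← hγ, hβ, one_smul, add_comm]⟩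
  have hWall : ∀ w ∈ P.W, ∃ γ : F, g.1.1 w = w + γ • P.e := by
    by_cases h4 : 4 ≤ Module.finrank F V
    · intro w hw
      have hsp := (H.restrict P.W P.nondeg_W).span_isotropic (by rw [P.finrank_W]; omega)
      let T : Submodule F P.W :=
        { carrier := {u | ∃ γ : F, g.1.1 (u : V) = u + γ • P.e}
          add_mem' := fun {u u'} => by
            rintro ⟨γ, h1⟩ ⟨γ', h2⟩
            exact ⟨γ + γ', by rw [Submodule.coe_add, map_add, h1, h2]; module⟩
          zero_mem' := ⟨0, by simp⟩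
          smul_mem' := fun c u => by
            rintro ⟨γ, h1⟩
            exact ⟨c * γ, by rw [Submodule.coe_smul, map_smul, h1]; module⟩ }
      have hle : Submodule.span F {u : P.W | (H.restrict P.W P.nondeg_W).h u u = 0} ≤ T := by
        refine Submodule.span_le.2 fun u hu => ?_
        rcases eq_or_ne (u : V) 0 with h0 | h0
        · exact ⟨0, by simp [h0]⟩
        refine hW u u.2 (hline u (g.1.1 u) h0 hu (P.mem_W.1 u.2).1 (H.isom_ne_zero g.1 h0) (iso_map H g hu) ?_)
        exact R_map_conj H g hu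
      rw [hsp] at hle
      exact hle (Submodule.mem_top : (⟨w, hw⟩ : P.W) ∈ ⊤)
    · intro w hw
      refine hW w hw ?_
      rcases eq_or_ne w 0 with rfl | hw0
      · rw [map_zero]; exact zero_mem _
      set y := g.1.1 w
      have hye : H.h y P.e = 0 := by
        have := H.map_form g.1 w P.e
        rw [hge, (P.mem_W.1 hw).1] at this
        exact this
      have h1 : (⟨P.proj y, P.proj_mem y⟩ : P.W) ∈ Submodule.span F {(⟨w, hw⟩ : P.W)} := by
        have hfr : Module.finrank F P.W = 1 := by rw [P.finrank_W]; omega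
        obtain ⟨c, hc⟩ := (finrank_eq_one_iff_of_nonzero' (⟨w, hw⟩ : P.W) (fun h => hw0 (congrArg Subtype.val h))).1
          hfr ⟨P.proj y, P.proj_mem y⟩
        exact Submodule.mem_span_singleton.2 ⟨c, hc⟩
      obtain ⟨c, hc⟩ := Submodule.mem_span_singleton.1 h1
      refine Submodule.mem_span_pair.2 ⟨H.h y P.f, c, ?_⟩
      rw [show c • w = P.proj y from congrArg Subtype.val hc]
      conv_rhs => rw [P.decomp y, hye, zero_smul, add_zero]
  set y := g.1.1 P.f
  have hye : H.h y P.e = 1 := by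
    have := H.map_form g.1 P.f P.e
    rw [hge, P.hfe] at this
    exact this
  have hy : y = P.pt (P.proj y) (H.h y P.f) := by
    conv_lhs => rw [P.decomp y, hye, one_smul]
    rw [pt]; abel
  have hval : P.Valid (P.proj y) (H.h y P.f) := by
    refine ⟨P.proj_mem y, ?_⟩
    have h0 : H.h y y = 0 := iso_map H g P.hf
    generalize P.proj y = w1, H.h y P.f = a1, P.proj_mem y = hm at hy ⊢
    obtain ⟨h1, h2⟩ := P.mem_W.1 hm
    rw [hy, pt] at h0
    simp only [H.add_left, H.add_right, H.smul_left, H.smul_right, P.he, P.hf, P.hef, P.hfe, h1, h2,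
      H.eq_zero_symm h1, H.eq_zero_symm h2] at h0
    linear_combination h0
  refine ⟨_, _, hval, congrArg (pr H) (Subtype.ext (H.isom_ext fun x => ?_))⟩
  refine P.ext_frame (S := g.1.1.toLinearMap) (T := (P.sg hval).1.1.toLinearMap) ?_ ?_ ?_ x
  · exact hge.trans (P.sg_e hval).symm
  · exact hy.trans (P.sg_f hval).symm
  · intro w hw
    obtain ⟨γ, hγ⟩ := hWall w hw
    show g.1.1 w = (P.sg hval).1.1 w
    rw [sg_apply, hγ, (P.mem_W.1 hw).1, zero_smul, add_zero, mul_zero, zero_sub]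
    congr 2
    have h1 := H.map_form g.1 w P.f
    rw [hγ, (P.mem_W.1 hw).2, H.add_left, H.smul_left] at h1
    change H.h w y + γ * H.h P.e y = 0 at h1
    rw [H.symm P.e y, hye, map_one, mul_one] at h1
    have h2 : H.h w y = H.h w (P.proj y) := by
      conv_lhs => rw [P.decomp y]
      rw [H.add_right, H.add_right, H.smul_right, H.smul_right, (P.mem_W.1 hw).1, (P.mem_W.1 hw).2, mul_zero,
        mul_zero, zero_add, zero_add]
    linear_combination h1 - h2

end Frame

/-- A point map of an automorphism. -/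
structure IsPointMap (α : MulAut (Pu H)) (f : V → V) : Prop where
  ne : ∀ x, x ≠ 0 → H.h x x = 0 → f x ≠ 0
  iso : ∀ x, x ≠ 0 → H.h x x = 0 → H.h (f x) (f x) = 0
  map : ∀ x, x ≠ 0 → H.h x x = 0 → (R H x).map α.toMonoidHom = R H (f x)

theorem exists_pointMap (p : ℕ) [Fact p.Prime] [CharP F p] (hd : 3 ≤ Module.finrank F V) (α : MulAut (Pu H)) :
    ∃ f : V → V, IsPointMap α f := by
  classical
  have h : ∀ x : V, ∃ y : V, x ≠ 0 → H.h x x = 0 → y ≠ 0 ∧ H.h y y = 0 ∧ (R H x).map α.toMonoidHom = R H y := by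
    intro x
    by_cases h : x ≠ 0 ∧ H.h x x = 0
    · obtain ⟨y, hy⟩ := R_map_aut H p hd α h.1 h.2
      exact ⟨y, fun _ _ => hy⟩
    · exact ⟨0, fun h1 h2 => absurd ⟨h1, h2⟩ h⟩
  choose f hf using h
  exact ⟨f, fun x h1 h2 => (hf x h1 h2).1, fun x h1 h2 => (hf x h1 h2).2.1, fun x h1 h2 => (hf x h1 h2).2.2⟩

namespace IsPointMap

variable {α : MulAut (Pu H)} {f : V → V} (hf : IsPointMap α f)

include hf

theorem perp (hd : 3 ≤ Module.finrank F V) {x y : V} (hx : x ≠ 0) (hxx : H.h x x = 0) (hy : y ≠ 0)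
    (hyy : H.h y y = 0) : H.h (f x) (f y) = 0 ↔ H.h x y = 0 := by
  rw [← R_commute_iff H hd hx hxx hyy, ← R_commute_iff H hd (hf.ne x hx hxx) (hf.iso x hx hxx) (hf.iso y hy hyy),
    ← hf.map x hx hxx, ← hf.map y hy hyy]
  constructor
  · intro h a ha b hb
    refine α.injective ?_
    rw [map_mul, map_mul]
    exact h _ ⟨a, ha, rfl⟩ _ ⟨b, hb, rfl⟩
  · rintro h _ ⟨a, ha, rfl⟩ _ ⟨b, hb, rfl⟩
    exact (h a ha b hb).map α

theorem inj (hd : 3 ≤ Module.finrank F V) {x y : V} (hx : x ≠ 0) (hxx : H.h x x = 0) (hy : y ≠ 0)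
    (hyy : H.h y y = 0) (h : f y ∈ Submodule.span F {f x}) : y ∈ Submodule.span F {x} := by
  obtain ⟨c, hc⟩ := Submodule.mem_span_singleton.1 h
  have hc0 : c ≠ 0 := by rintro rfl; rw [zero_smul] at hc; exact hf.ne y hy hyy hc.symm
  refine eq_of_R H hd hy hyy hxx (le_of_eq (Subgroup.map_injective (f := α.toMonoidHom) α.injective ?_))
  rw [hf.map y hy hyy, hf.map x hx hxx, ← hc, R_smul H (hf.iso x hx hxx) hc0]

theorem surj (p : ℕ) [Fact p.Prime] [CharP F p] (hd : 3 ≤ Module.finrank F V) {y : V} (hy : y ≠ 0)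
    (hyy : H.h y y = 0) : ∃ x, x ≠ 0 ∧ H.h x x = 0 ∧ ∃ c : F, c ≠ 0 ∧ y = c • f x := by
  obtain ⟨x, hx, hxx, e⟩ := R_map_aut H p hd α⁻¹ hy hyy
  refine ⟨x, hx, hxx, ?_⟩
  have h1 : R H y ≤ R H (f x) := by
    rw [← hf.map x hx hxx, ← e, Subgroup.map_map]
    intro z hz
    exact ⟨z, hz, α.apply_symm_apply z⟩
  obtain ⟨c, hc⟩ := Submodule.mem_span_singleton.1 (eq_of_R H hd hy hyy (hf.iso x hx hxx) h1)
  exact ⟨c, fun h => hy (by rw [← hc, h, zero_smul]), hc.symm⟩

/-- Collinear isotropic points go to collinear points. -/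
theorem col (p : ℕ) [Fact p.Prime] [CharP F p] (hd : 3 ≤ Module.finrank F V) {x y z : V} (hx : x ≠ 0)
    (hxx : H.h x x = 0) (hy : y ≠ 0) (hyy : H.h y y = 0) (hz : z ≠ 0) (hzz : H.h z z = 0)
    (h : z ∈ Submodule.span F {x, y}) : f z ∈ Submodule.span F {f x, f y} := by
  by_cases hxy : H.h x y = 0
  · refine mem_span_of_perp H (hf.iso x hx hxx) (hf.iso y hy hyy) ((hf.perp hd hx hxx hy hyy).2 hxy)
      (hf.iso z hz hzz) fun w hw hww hwx hwy => ?_
    obtain ⟨u, hu, huu, c, hc, rfl⟩ := hf.surj p hd hw hww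
    rw [H.smul_left, mul_eq_zero] at hwx hwy
    rw [H.smul_left, (hf.perp hd hu huu hz hzz).2 ?_, mul_zero]
    obtain ⟨a, b, rfl⟩ := Submodule.mem_span_pair.1 h
    rw [H.add_right, H.smul_right, H.smul_right, (hf.perp hd hu huu hx hxx).1 (hwx.resolve_left hc),
      (hf.perp hd hu huu hy hyy).1 (hwy.resolve_left hc), mul_zero, mul_zero, add_zero]
  · refine (R_le_sup_iff H hd (hf.iso x hx hxx) (hf.iso y hy hyy) (hf.iso z hz hzz)
      fun h0 => hxy ((hf.perp hd hx hxx hy hyy).1 h0)).1 ?_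
    rw [← hf.map x hx hxx, ← hf.map y hy hyy, ← hf.map z hz hzz, ← Subgroup.map_sup]
    exact Subgroup.map_mono ((R_le_sup_iff H hd hxx hyy hzz hxy).2 h)

end IsPointMap

end Cfsg.Lib.Unitary
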