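import Cfsg.Agent.Known.Unit.Out
import Cfsg.Agent.Known.Sympl.FieldData

/-!
Centralisers and class splitting of field automorphisms of odd prime order of `PSU`.
-/

set_option autoImplicit false
set_option linter.unusedSectionVars false

namespace Cfsg.Lib.Unitary

open Matrix Cfsg.Lib.Classical
open Cfsg.Lib.Known.FieldLight (exists_fixed_hom nonempty_equiv order_dvd)

universe u

variable {F : Type u} [Field F] [Fintype F] {n q : ℕ}

local notation "Mn" => Matrix (Fin n) (Fin n) F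
local notation "GLn" => GL (Fin n) F
local notation "GUn" => Cfsg.GU n F q
local notation "Qn" => Cfsg.PSU n F q

theorem index_pow_sup' {A : Type*} [CommGroup A] [Finite A] [IsCyclic A] (a b : ℕ) (hb : b ∣ Nat.card A) :
    ((powMonoidHom a : A →* A).range ⊔ (powMonoidHom b : A →* A).range).index = Nat.gcd a b := by
  have e : (powMonoidHom a : A →* A).range ⊔ (powMonoidHom b : A →* A).range =
      (powMonoidHom (Nat.gcd a b) : A →* A).range := by
    refine le_antisymm (sup_le ?_ ?_) ?_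
    · rintro _ ⟨x, rfl⟩
      obtain ⟨c, hc⟩ := Nat.gcd_dvd_left a b
      exact ⟨x ^ c, by rw [powMonoidHom_apply, powMonoidHom_apply, ← pow_mul, mul_comm, ← hc]⟩
    · rintro _ ⟨x, rfl⟩
      obtain ⟨c, hc⟩ := Nat.gcd_dvd_right a b
      exact ⟨x ^ c, by rw [powMonoidHom_apply, powMonoidHom_apply, ← pow_mul, mul_comm, ← hc]⟩
    · rintro _ ⟨x, rfl⟩
      have : powMonoidHom (Nat.gcd a b) x = (x ^ (Nat.gcdA a b)) ^ a * (x ^ (Nat.gcdB a b)) ^ b := by
        rw [powMonoidHom_apply, ← zpow_natCast x, Nat.gcd_eq_gcd_ab, ← zpow_natCast (x ^ Nat.gcdA a b),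
          ← zpow_natCast (x ^ Nat.gcdB a b), ← _root_.zpow_mul, ← _root_.zpow_mul, ← _root_.zpow_add,
          mul_comm (a : ℤ), mul_comm (b : ℤ)]
      rw [this]
      exact Subgroup.mul_mem_sup ⟨_, rfl⟩ ⟨_, rfl⟩
  rw [e, index_pow_range, Nat.gcd_eq_right ((Nat.gcd_dvd_right a b).trans hb)]

theorem eq_pow_range {A : Type*} [CommGroup A] [Finite A] [IsCyclic A] (S : Subgroup A) {m : ℕ}
    (h : Nat.card S * m = Nat.card A) : S = (powMonoidHom m : A →* A).range := by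
  refine Subgroup.eq_of_le_of_card_ge ?_ ?_
  · intro x hx
    obtain ⟨g, hg⟩ := IsCyclic.exists_generator (α := A)
    obtain ⟨k, rfl⟩ := Subgroup.mem_zpowers_iff.1 (hg x)
    have h1 : (g ^ k) ^ Nat.card S = 1 := congrArg Subtype.val (pow_card_eq_one' (x := (⟨g ^ k, hx⟩ : S)))
    rw [← zpow_natCast, ← _root_.zpow_mul, ← orderOf_dvd_iff_zpow_eq_one, orderOf_eq_card_of_forall_mem_zpowers hg,
      ← h, Nat.cast_mul, mul_comm k] at h1
    obtain ⟨c, hc⟩ := (mul_dvd_mul_iff_left (Int.natCast_ne_zero.2 Nat.card_pos.ne')).1 h1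
    exact ⟨g ^ c, by rw [powMonoidHom_apply, hc, ← zpow_natCast, ← _root_.zpow_mul, mul_comm]⟩
  · have hm : 0 < m := Nat.pos_of_ne_zero fun h0 => by
      rw [h0, mul_zero] at h
      exact (Nat.card_pos (α := A)).ne h
    rw [IsCyclic.card_powMonoidHom_range, ← h, Nat.gcd_mul_left_left, Nat.mul_div_cancel _ hm]

theorem pow_pow_odd {K : Type*} [Field K] [Fintype K] {q0 : ℕ} (hK : Fintype.card K = q0 ^ 2) (k : ℕ) (y : K) :
    y ^ (q0 ^ (2 * k + 1)) = y ^ q0 := by
  rw [pow_succ', pow_mul, pow_mul, ← hK, FiniteField.pow_card_pow]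

/-- Unitary matrices over a subfield. -/
noncomputable def embU {F₀ : Type*} [Field F₀] [Fintype F₀] {q0 : ℕ} (hK0 : Fintype.card F₀ = q0 ^ 2)
    (hF : Fintype.card F = q ^ 2) (ι : F₀ →+* F) (hconj : ∀ y, ι (powConj hK0 y) = powConj hF (ι y)) :
    Cfsg.GU n F₀ q0 →* GUn :=
  ((GeneralLinearGroup.map ι).comp (Cfsg.GU n F₀ q0).subtype).codRestrict (Cfsg.GU n F q) fun b =>
    (UnitaryConj.mem_GU hF _).2 (by
      show UnitaryConj.cst (powConj hF) (((b : GL (Fin n) F₀) : Matrix (Fin n) (Fin n) F₀).map ι) *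
        ((b : GL (Fin n) F₀) : Matrix (Fin n) (Fin n) F₀).map ι = 1
      have hcst : UnitaryConj.cst (powConj hF) (((b : GL (Fin n) F₀) : Matrix (Fin n) (Fin n) F₀).map ι) =
          (UnitaryConj.cst (powConj hK0) ((b : GL (Fin n) F₀) : Matrix (Fin n) (Fin n) F₀)).map ι := by
        ext i j; exact (hconj _).symm
      rw [hcst, ← Matrix.map_mul, (UnitaryConj.mem_GU hK0 _).1 b.2,
        Matrix.map_one ι (map_zero ι) (map_one ι)])

theorem coe_embU {F₀ : Type*} [Field F₀] [Fintype F₀] {q0 : ℕ} (hK0 : Fintype.card F₀ = q0 ^ 2)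
    (hF : Fintype.card F = q ^ 2) (ι : F₀ →+* F) (hconj : ∀ y, ι (powConj hK0 y) = powConj hF (ι y))
    (b : Cfsg.GU n F₀ q0) : (((embU hK0 hF ι hconj b : GUn) : GLn) : Mn) =
      ((b : GL (Fin n) F₀) : Matrix (Fin n) (Fin n) F₀).map ι := rfl

/-- Unitary matrices fixed by `σ` up to a scalar come from the fixed field. -/
theorem desc {F₀ : Type*} [Field F₀] [Fintype F₀] {q0 : ℕ} (hK0 : Fintype.card F₀ = q0 ^ 2)
    (hF : Fintype.card F = q ^ 2) (ι : F₀ →+* F) (hconj : ∀ y, ι (powConj hK0 y) = powConj hF (ι y))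
    (hn : 1 ≤ n) {σ : F ≃+* F} (hι : ∀ x, σ x = x ↔ x ∈ Set.range ι) (b : GUn)
    (hu : ∃ u : F, u ≠ 0 ∧ ((b : GLn) : Mn).map σ = u • ((b : GLn) : Mn)) :
    ∃ (c : N1 hF) (b₀ : Cfsg.GU n F₀ q0), b = scU hF c * embU hK0 hF ι hconj b₀ := by
  have hcst : ∀ M : Matrix (Fin n) (Fin n) F₀,
      (UnitaryConj.cst (powConj hK0) M).map ι = UnitaryConj.cst (powConj hF) (M.map ι) := fun M => by
    ext i j; exact hconj _
  obtain ⟨u, hu0, hu⟩ := hu
  obtain ⟨i, l, hil⟩ : ∃ i l, ((b : GLn) : Mn) i l ≠ 0 := by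
    by_contra h
    push Not at h
    have h0 : ((b : GLn) : Mn) = 0 := Matrix.ext h
    have := (b : GLn).mul_inv
    rw [h0, zero_mul] at this
    exact one_ne_zero (α := F) (by
      simpa using (congrFun (congrFun this (⟨0, by omega⟩ : Fin n)) ⟨0, by omega⟩).symm)
  set c1 := ((b : GLn) : Mn) i l with hc1
  have hent : ∀ a c, σ (((b : GLn) : Mn) a c) = u * ((b : GLn) : Mn) a c := fun a c => by
    simpa [Matrix.smul_apply] using congrFun (congrFun hu a) c
  have hfe : ∀ a c, ∃ y, ι y = c1⁻¹ * ((b : GLn) : Mn) a c := fun a c => by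
    refine (hι _).1 ?_
    rw [hc1, map_mul, map_inv₀, hent, hent]
    field_simp
  choose y hy using hfe
  set Y : Matrix (Fin n) (Fin n) F₀ := Matrix.of y with hY
  have hM : ((b : GLn) : Mn) = c1 • Y.map ι := by
    ext a c
    rw [Matrix.smul_apply, Matrix.map_apply, hY, Matrix.of_apply, hy, smul_eq_mul, mul_inv_cancel_left₀ hil]
  set ν : F := powConj hF c1 * c1 with hν
  have hb1 : ν • (UnitaryConj.cst (powConj hK0) Y * Y).map ι = 1 := by
    rw [← (UnitaryConj.mem_GU hF (b : GLn)).1 b.2, hM, hν, Matrix.map_mul, hcst]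
    ext a c
    simp only [Matrix.smul_apply, UnitaryConj.cst, Matrix.mul_apply, transpose_apply, Matrix.map_apply,
      map_mul, smul_eq_mul, Finset.mul_sum]
    exact Finset.sum_congr rfl fun _ _ => by ring
  let o : Fin n := ⟨0, by omega⟩
  set y00 : F₀ := (UnitaryConj.cst (powConj hK0) Y * Y) o o with hy00
  have h00 : ν * ι y00 = 1 := by
    have := congrFun (congrFun hb1 o) o
    rwa [Matrix.smul_apply, Matrix.map_apply, Matrix.one_apply_eq, smul_eq_mul] at this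
  have hy0 : y00 ≠ 0 := fun h0 => by rw [h0, map_zero, mul_zero] at h00; exact zero_ne_one h00
  have hνι : ν = ι y00⁻¹ := by rw [map_inv₀]; exact eq_inv_of_mul_eq_one_left h00
  have hνfix : powConj hK0 y00⁻¹ = y00⁻¹ := ι.injective (by
    rw [hconj, ← hνι, hν, map_mul, (powConj_isConj hF).invol, mul_comm])
  obtain ⟨z0, hz0⟩ := (powConj_isConj hK0).norm_surjective hνfix
  have hz00 : z0 ≠ 0 := fun h0 => by rw [h0, zero_mul] at hz0; exact inv_ne_zero hy0 hz0.symm
  have hιz : ι z0 ≠ 0 := (map_ne_zero ι).2 hz00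
  set cc := c1 / ι z0 with hcc
  have hccn : cc * powConj hF cc = 1 := by
    rw [hcc, map_div₀, ← hconj, div_mul_div_comm, mul_comm c1, ← hν, hνι, ← map_mul, hz0, div_self]
    exact (map_ne_zero ι).2 (inv_ne_zero hy0)
  have hcc0 : cc ≠ 0 := div_ne_zero hil hιz
  have hb0 : UnitaryConj.cst (powConj hK0) (z0 • Y) * (z0 • Y) = 1 := by
    refine Matrix.map_injective ι.injective ?_
    show (UnitaryConj.cst (powConj hK0) (z0 • Y) * (z0 • Y)).map ι = (1 : Matrix (Fin n) (Fin n) F₀).map ι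
    rw [Matrix.map_one ι (map_zero ι) (map_one ι), ← hb1, hνι, ← hz0]
    ext a c
    simp only [Matrix.smul_apply, UnitaryConj.cst, Matrix.mul_apply, transpose_apply, Matrix.map_apply, map_sum,
      map_mul, smul_eq_mul, Finset.mul_sum]
    exact Finset.sum_congr rfl fun _ _ => by ring
  obtain ⟨b₀, hb₀⟩ := UnitaryConj.exists_GU_of hK0 (z0 • Y) hb0
  refine ⟨⟨Units.mk0 cc hcc0, (mem_N1 hF _).2 hccn⟩, b₀, gu_ext ?_⟩
  rw [coe_gu_mul, coe_scU, coe_embU, hb₀, Matrix.smul_mul, Matrix.one_mul, hM]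
  ext a c
  simp only [Matrix.smul_apply, Matrix.map_apply, map_mul, smul_eq_mul, Units.val_mk0, hcc]
  field_simp

/-- The data of a field automorphism of odd prime order. -/
theorem field_data (hn : 3 ≤ n) {p f r : ℕ} [Fact p.Prime] (hq : q = p ^ f) (hf : 1 ≤ f)
    (hF : Fintype.card F = q ^ 2) (hs : ¬ (n = 3 ∧ q = 2)) (hr : r.Prime) (hro : Odd r) {x : MulAut Qn}
    (hx : Cfsg.IsFieldAutClassPSU x) (hxr : orderOf x = r) (F₀ : Type*) [Field F₀] [Fintype F₀]
    (hF₀ : Fintype.card F₀ = p ^ (2 * (f / r))) :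
    r ∣ f ∧ Nonempty (↥(Cfsg.inndiagPSU n F q ⊓ Subgroup.centralizer {x}) ≃* Cfsg.PGU n F₀ (p ^ (f / r))) ∧
      Cfsg.splitClassCount (Cfsg.inndiagPSU n F q) (Cfsg.Inn Qn) x =
        Nat.gcd n ((q + 1) / (p ^ (f / r) + 1)) := by
  classical
  have := charP_of_card hq hF
  have hs' := three_le_q hq hf hs
  obtain ⟨α, φ, σ, hσ, hodd, hstd, hαφ⟩ := hx
  obtain rfl := hαφ
  have hφ := eq_fieldU hstd
  have hord : orderOf σ = r := by
    have : Fact r.Prime := ⟨hr⟩
    refine orderOf_eq_prime (conjU_fieldU_eq_one hF hn (g := 1) ?_).2 hσ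
    rw [map_one, one_mul, map_pow, ← hφ, conj_pow, ← hxr, pow_orderOf_eq_one, mul_one, mul_inv_cancel]
  have hF' : Fintype.card F = p ^ (2 * f) := by rw [hF, hq, ← pow_mul, mul_comm]
  have hrf : r ∣ f := (Nat.Coprime.dvd_of_dvd_mul_left
    ((Nat.coprime_two_right).2 hro) (hord ▸ order_dvd hF' σ))
  have hdiv : 2 * f / r = 2 * (f / r) := Nat.mul_div_assoc 2 hrf
  obtain ⟨ι, hι⟩ := exists_fixed_hom hF' hord F₀ (by rw [hF₀, hdiv])
  set q0 := p ^ (f / r) with hq0d
  have hK0 : Fintype.card F₀ = q0 ^ 2 := by rw [hF₀, hq0d, ← pow_mul, mul_comm]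
  have hqq : q = q0 ^ r := by rw [hq, hq0d, ← pow_mul, Nat.div_mul_cancel hrf]
  obtain ⟨k, hk⟩ := hro
  have hconj : ∀ y : F₀, ι (powConj hK0 y) = powConj hF (ι y) := fun y => by
    rw [powConj_apply, powConj_apply, ← map_pow, hqq, hk, pow_pow_odd hK0]
  have hcst : ∀ M : Matrix (Fin n) (Fin n) F₀,
      (UnitaryConj.cst (powConj hK0) M).map ι = UnitaryConj.cst (powConj hF) (M.map ι) := fun M => by
    ext i j; exact hconj _
  let ι' : Cfsg.GU n F₀ q0 →* GUn := embU hK0 hF ι hconj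
  have hι'coe : ∀ b, (((ι' b : GUn) : GLn) : Mn) = ((b : GL (Fin n) F₀) : Matrix (Fin n) (Fin n) F₀).map ι := fun b => rfl
  have himg : ∀ u : N1 hK0, Units.map ι.toMonoidHom (u : F₀ˣ) ∈ N1 hF := fun u => by
    rw [mem_N1]
    show ι ((u : F₀ˣ) : F₀) * powConj hF (ι ((u : F₀ˣ) : F₀)) = 1
    rw [← hconj, ← map_mul, (mem_N1 hK0 _).1 u.2, map_one]
  let j : N1 hK0 →* N1 hF := ((Units.map ι.toMonoidHom).comp (N1 hK0).subtype).codRestrict (N1 hF) himg
  have hdetι : ∀ b, guDet hF (ι' b) = j (guDet hK0 b) := fun b => Subtype.ext (Units.ext (by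
    rw [coe_guDet, hι'coe, ← RingHom.mapMatrix_apply, ← RingHom.map_det]; rfl))
  have hfix : ∀ b, guAut σ (ι' b) = ι' b := fun b => gu_ext (Matrix.ext fun i j => (hι _).2 ⟨_, rfl⟩)
  have hdesc : ∀ b : GUn, (∃ u : N1 hF, guAut σ b = scU hF u * b) →
      ∃ (c : N1 hF) (b₀ : Cfsg.GU n F₀ q0), b = scU hF c * ι' b₀ := by
    rintro b ⟨u, hu⟩
    refine desc hK0 hF ι hconj (by omega) hι b ⟨((u : Fˣ) : F), (u : Fˣ).ne_zero, ?_⟩
    have := congrArg (fun z : GUn => ((z : GLn) : Mn)) hu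
    rw [coe_guAut, coe_gu_mul, coe_scU, Matrix.smul_mul, Matrix.one_mul] at this
    exact this
  have hcent : ∀ g : GUn, conjU g ∈ Subgroup.centralizer {(fieldU σ : MulAut Qn)} ↔
      ∃ (c : N1 hF) (b₀ : Cfsg.GU n F₀ q0), g = scU hF c * ι' b₀ := by
    intro g
    rw [Subgroup.mem_centralizer_singleton_iff, fieldU_mul_conjU, mul_left_inj]
    constructor
    · intro h
      obtain ⟨u, hu⟩ := (conjU_eq_one_iff hF hn (guAut σ g * g⁻¹)).1 (by rw [map_mul, map_inv, ← h, mul_inv_cancel])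
      exact hdesc g ⟨u, mul_inv_eq_iff_eq_mul.1 hu⟩
    · rintro ⟨c, b₀, rfl⟩
      have hc' : Units.map σ.toRingHom.toMonoidHom (c : Fˣ) ∈ N1 hF := by
        rw [mem_N1]
        show σ ((c : Fˣ) : F) * powConj hF (σ ((c : Fˣ) : F)) = 1
        rw [← powConj_comm, ← map_mul, (mem_N1 hF _).1 c.2, map_one]
      simp only [map_mul, hfix, guAut_scU hF σ c ⟨_, hc'⟩ rfl, conjU_scU]
  have hH : ∀ a, ∀ h ∈ Cfsg.inndiagPSU n F q, a * h * a⁻¹ ∈ Cfsg.inndiagPSU n F q :=
    fun a h hh => inndiag_normal p hF hn hs' hh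
  have hK : ∀ a, ∀ h ∈ Cfsg.Inn Qn, a * h * a⁻¹ ∈ Cfsg.Inn Qn :=
    fun a h hh => (Cfsg.innNormal Qn).conj_mem h hh a
  refine ⟨hrf, ?_, ?_⟩
  · obtain ⟨e1⟩ := Sympl.nonempty_inf_centralizer (Cfsg.inndiagPSU n F q) α x hH
    rw [hφ] at e1
    suffices h : Nonempty (↥(Cfsg.inndiagPSU n F q ⊓ Subgroup.centralizer {(fieldU σ : MulAut Qn)}) ≃*
        Cfsg.PGU n F₀ q0)
    · exact ⟨e1.trans h.some⟩
    refine nonempty_equiv ((conjU : GUn →* MulAut Qn).comp ι') _ _ ?_ ?_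
    · ext b
      rw [MonoidHom.mem_ker, MonoidHom.comp_apply, conjU_eq_one_iff hF hn, Subgroup.mem_subgroupOf,
        Geo.mem_scalars_iff]
      constructor
      · rintro ⟨u, hu⟩
        have hu' : ∀ a c, ι (((b : GL (Fin n) F₀) : Matrix (Fin n) (Fin n) F₀) a c) = (((u : Fˣ) : F) • (1 : Mn)) a c :=
          fun a c => by rw [← coe_scU hF, ← hu]; rfl
        let o : Fin n := ⟨0, by omega⟩
        have hoo := hu' o o
        rw [Matrix.smul_apply, Matrix.one_apply_eq, smul_eq_mul, mul_one] at hoo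
        refine ⟨Units.mk0 (((b : GL (Fin n) F₀) : Matrix (Fin n) (Fin n) F₀) o o)
          fun h0 => (u : Fˣ).ne_zero (by rw [← hoo, h0, map_zero]), Matrix.ext fun a c => ι.injective ?_⟩
        rw [hu', Units.val_mk0, Matrix.smul_apply, Matrix.smul_apply, smul_eq_mul, smul_eq_mul, map_mul, hoo]
        rw [Matrix.one_apply, Matrix.one_apply]; split_ifs <;> simp
      · rintro ⟨u, hu⟩
        have hmem : Units.map ι.toMonoidHom u ∈ N1 hF := by
          rw [mem_N1]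
          show ι (u : F₀) * powConj hF (ι (u : F₀)) = 1
          let o : Fin n := ⟨0, by omega⟩
          have h1 := congrFun (congrFun ((UnitaryConj.mem_GU hK0 _).1 b.2) o) o
          rw [hu, UnitaryConj.cst, Matrix.mul_smul, Matrix.mul_one, Matrix.smul_apply, transpose_apply,
            Matrix.map_apply, Matrix.smul_apply, Matrix.one_apply_eq, smul_eq_mul, smul_eq_mul, mul_one] at h1
          rw [← hconj, ← map_mul, h1, map_one]
        refine ⟨⟨_, hmem⟩, gu_ext ?_⟩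
        rw [coe_scU, hι'coe, hu]
        ext a c
        by_cases h : a = c <;> simp [h]
    · ext z
      rw [Subgroup.mem_inf, inndiag_eq]
      constructor
      · rintro ⟨b, rfl⟩
        exact ⟨⟨_, rfl⟩, (hcent (ι' b)).2 ⟨1, b, by rw [map_one, one_mul]⟩⟩
      · rintro ⟨⟨g, rfl⟩, hg⟩
        obtain ⟨c, b, rfl⟩ := (hcent g).1 hg
        refine ⟨b, ?_⟩
        rw [MonoidHom.comp_apply, map_mul, conjU_scU, one_mul]
  · rw [← Sympl.splitClassCount_conj _ _ α x hH hK, hφ]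
    conv_lhs => rw [inndiag_eq, inn_eq_map hF]
    let i0 : Fin n := ⟨0, by omega⟩
    refine (Sympl.split_count_gen (conjU : GUn →* MulAut Qn) (guDet hF)
      (fun c => ⟨dfst hF i0 c, guDet_dfst hF i0 c⟩) _).trans ?_
    set mm := (q + 1) / (q0 + 1) with hmm
    have hdvd : q0 + 1 ∣ q + 1 := by
      have := Odd.nat_add_dvd_pow_add_pow q0 1 (⟨k, hk⟩ : Odd r)
      rwa [one_pow, ← hqq] at this
    have hmul : (q0 + 1) * mm = q + 1 := Nat.mul_div_cancel' hdvd
    have hjinj : Function.Injective j := fun a b h =>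
      Subtype.ext (Units.map_injective ι.injective (congrArg Subtype.val h))
    have hrange : j.range = (powMonoidHom mm : N1 hF →* N1 hF).range := eq_pow_range _ (by
      rw [← Nat.card_congr (MonoidHom.ofInjective hjinj).toEquiv, card_N1, card_N1, hmul])
    have hset : ((Subgroup.centralizer {(fieldU σ : MulAut Qn)}).comap (conjU : GUn →* MulAut Qn)).map
        (guDet hF) = (powMonoidHom n : N1 hF →* N1 hF).range ⊔ (powMonoidHom mm : N1 hF →* N1 hF).range := by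
      rw [← hrange]
      refine le_antisymm ?_ (sup_le ?_ ?_)
      · rintro _ ⟨g, hg, rfl⟩
        obtain ⟨c, b, rfl⟩ := (hcent g).1 hg
        rw [map_mul, guDet_scU, hdetι]
        exact Subgroup.mul_mem_sup ⟨c, rfl⟩ ⟨_, rfl⟩
      · rintro _ ⟨c, rfl⟩
        exact ⟨scU hF c, (hcent _).2 ⟨c, 1, by rw [map_one, mul_one]⟩, guDet_scU hF c⟩
      · rintro _ ⟨c, rfl⟩
        exact ⟨ι' (dfst hK0 i0 c), (hcent _).2 ⟨1, _, by rw [map_one, one_mul]⟩,
          (hdetι _).trans (by rw [guDet_dfst])⟩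
    rw [hset, index_pow_sup' n mm ⟨q0 + 1, by rw [card_N1, mul_comm mm, hmul]⟩]

end Cfsg.Lib.Unitary
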