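import Cfsg.Agent.Classical.Unitary.Simple

/-!
Root groups of `PSU` and the geometry of isotropic points they encode.
-/

set_option autoImplicit false
set_option linter.unusedSectionVars false

namespace Cfsg.Lib.Unitary

open Cfsg.Lib.Classical

universe u v

variable {F : Type u} [Field F] {V : Type v} [AddCommGroup V] [Module F V] (H : HermSpace F V)

/-- The central quotient. -/
abbrev Pu : Type v := H.SIsom ⧸ Subgroup.center H.SIsom

/-- Passing to the central quotient. -/
noncomputable def pr : H.SIsom →* Pu H := QuotientGroup.mk' _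

theorem pr_surjective : Function.Surjective (pr H) := QuotientGroup.mk'_surjective _

theorem pr_eq_iff {a b : H.SIsom} : pr H a = pr H b ↔ ∃ z ∈ Subgroup.center H.SIsom, a * z = b :=
  QuotientGroup.mk'_eq_mk' _

theorem pr_eq_one {a : H.SIsom} : pr H a = 1 ↔ a ∈ Subgroup.center H.SIsom := QuotientGroup.eq_one_iff _

/-- A transvection. -/
noncomputable def tr {v : V} (hv : H.h v v = 0) {c : F} (hc : c + H.σ c = 0) : H.SIsom :=
  ⟨H.uT hv hc, H.uT_mem_SIsom hv hc⟩

theorem tr_apply {v : V} (hv : H.h v v = 0) {c : F} (hc : c + H.σ c = 0) (x : V) :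
    (tr H hv hc).1.1 x = x + (c * H.h x v) • v := H.uT_apply hv hc x

/-- The root group of an isotropic vector. -/
noncomputable def R (v : V) : Subgroup (Pu H) := ⨆ hv : H.h v v = 0, (H.rootGroup hv).map (pr H)

theorem R_eq {v : V} (hv : H.h v v = 0) : R H v = (H.rootGroup hv).map (pr H) := iSup_pos hv

theorem mem_R {v : V} (hv : H.h v v = 0) {x : Pu H} :
    x ∈ R H v ↔ ∃ (c : F) (hc : c + H.σ c = 0), pr H (tr H hv hc) = x := by
  rw [R_eq H hv]
  constructor
  · rintro ⟨g, ⟨c, hc, hg⟩, rfl⟩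
    exact ⟨c, hc, congrArg (pr H) (Subtype.ext hg.symm)⟩
  · rintro ⟨c, hc, rfl⟩
    exact ⟨_, ⟨c, hc, rfl⟩, rfl⟩

theorem tr_mem_R {v : V} (hv : H.h v v = 0) {c : F} (hc : c + H.σ c = 0) : pr H (tr H hv hc) ∈ R H v :=
  (mem_R H hv).2 ⟨c, hc, rfl⟩

theorem R_smul {v : V} (hv : H.h v v = 0) {a : F} (ha : a ≠ 0) : R H (a • v) = R H v := by
  have hav : H.h (a • v) (a • v) = 0 := by rw [H.smul_left, H.smul_right, hv, mul_zero, mul_zero]
  rw [R_eq H hv, R_eq H hav, H.rootGroup_eq_of_smul hv hav ha rfl]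

theorem iso_map (g : H.SIsom) {v : V} (hv : H.h v v = 0) : H.h (g.1.1 v) (g.1.1 v) = 0 := by
  rw [H.map_form, hv]

theorem tr_conj (g : H.SIsom) {v : V} (hv : H.h v v = 0) {c : F} (hc : c + H.σ c = 0) :
    g * tr H hv hc * g⁻¹ = tr H (iso_map H g hv) hc := Subtype.ext (H.uT_conj g.1 hv hc)

theorem R_map_conj (g : H.SIsom) {v : V} (hv : H.h v v = 0) :
    (R H v).map (MulAut.conj (pr H g)).toMonoidHom = R H (g.1.1 v) := by
  ext x
  rw [Subgroup.mem_map, mem_R H (iso_map H g hv)]
  constructor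
  · rintro ⟨y, hy, rfl⟩
    obtain ⟨c, hc, rfl⟩ := (mem_R H hv).1 hy
    refine ⟨c, hc, ?_⟩
    show _ = pr H g * pr H (tr H hv hc) * (pr H g)⁻¹
    rw [← map_inv, ← map_mul, ← map_mul, tr_conj]
  · rintro ⟨c, hc, rfl⟩
    refine ⟨_, tr_mem_R H hv hc, ?_⟩
    show pr H g * pr H (tr H hv hc) * (pr H g)⁻¹ = _
    rw [← map_inv, ← map_mul, ← map_mul, tr_conj]

variable [Finite F] [FiniteDimensional F V]

theorem center_scalar (hd : 2 ≤ Module.finrank F V) {z : H.SIsom} (hz : z ∈ Subgroup.center H.SIsom) :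
    ∃ a : F, a ≠ 0 ∧ ∀ x, z.1.1 x = a • x := by
  obtain ⟨a, ha, -, h⟩ := (H.mem_center_SIsom_iff hd).1 hz
  exact ⟨a, fun h0 => by rw [h0, zero_mul] at ha; exact zero_ne_one ha, h⟩

theorem exists_perp2 (hd : 3 ≤ Module.finrank F V) (u w : V) : ∃ x : V, x ≠ 0 ∧ H.h x u = 0 ∧ H.h x w = 0 := by
  classical
  have h : H.orth (Submodule.span F {u, w}) ≠ ⊥ := by
    intro h0
    have h1 := H.finrank_orth (Submodule.span F {u, w})
    rw [h0, finrank_bot] at h1
    have h2 : Module.finrank F (Submodule.span F ({u, w} : Set V)) ≤ 2 := by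
      have := finrank_span_finset_le_card (R := F) ({u, w} : Finset V)
      rw [Finset.coe_pair] at this
      exact this.trans Finset.card_le_two
    omega
  obtain ⟨x, hx, hx0⟩ := Submodule.exists_mem_ne_zero_of_ne_bot h
  exact ⟨x, hx0, hx u (Submodule.subset_span (by simp)), hx w (Submodule.subset_span (by simp))⟩

theorem eq_of_pr_tr (hd : 3 ≤ Module.finrank F V) {v w : V} {hv : H.h v v = 0} {hw : H.h w w = 0} {c c' : F}
    {hc : c + H.σ c = 0} {hc' : c' + H.σ c' = 0} (h : pr H (tr H hv hc) = pr H (tr H hw hc')) :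
    tr H hv hc = tr H hw hc' := by
  obtain ⟨z, hz, e⟩ := (pr_eq_iff H).1 h
  obtain ⟨a, ha, hza⟩ := center_scalar H (by omega) hz
  obtain ⟨x, hx, hxv, hxw⟩ := exists_perp2 H hd v w
  have e1 := congrArg (fun g : H.SIsom => g.1.1 x) e
  change (tr H hv hc).1.1 (z.1.1 x) = (tr H hw hc').1.1 x at e1
  rw [hza, map_smul, tr_apply, tr_apply, hxv, hxw, mul_zero, zero_smul, add_zero, mul_zero, zero_smul,
    add_zero] at e1
  have ha1 : a = 1 := smul_left_injective F hx (e1.trans (one_smul F x).symm)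
  rw [show z = 1 from Subtype.ext (H.isom_ext fun y => by rw [hza, ha1, one_smul]; rfl), mul_one] at e
  exact e

theorem eq_of_R (hd : 3 ≤ Module.finrank F V) {v w : V} (hv0 : v ≠ 0) (hv : H.h v v = 0) (hw : H.h w w = 0)
    (h : R H v ≤ R H w) : v ∈ Submodule.span F {w} := by
  obtain ⟨δ, hδ0, hδ⟩ := H.conj.exists_skew
  obtain ⟨c, hc, e⟩ := (mem_R H hw).1 (h (tr_mem_R H hv hδ))
  have e := eq_of_pr_tr H hd e
  obtain ⟨u, hu, -⟩ := H.exists_hyperbolic hv0 hv
  have e1 := congrArg (fun g : H.SIsom => g.1.1 u) e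
  simp only [tr_apply, H.symm u v, hu, map_one, mul_one, add_right_inj] at e1
  exact Submodule.mem_span_singleton.2 ⟨δ⁻¹ * (c * H.h u w), by
    rw [mul_smul, e1, smul_smul, inv_mul_cancel₀ hδ0, one_smul]⟩

theorem R_commute_iff (hd : 3 ≤ Module.finrank F V) {v w : V} (hv0 : v ≠ 0) (hv : H.h v v = 0) (hw : H.h w w = 0) :
    (∀ x ∈ R H v, ∀ y ∈ R H w, Commute x y) ↔ H.h v w = 0 := by
  constructor
  · intro h
    obtain ⟨δ, hδ0, hδ⟩ := H.conj.exists_skew
    have e : R H ((tr H hw hδ).1.1 v) ≤ R H v := by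
      rw [← R_map_conj H _ hv]
      rintro _ ⟨x, hx, rfl⟩
      have hc : Commute x (pr H (tr H hw hδ)) := h x hx _ (tr_mem_R H hw hδ)
      show pr H (tr H hw hδ) * x * (pr H (tr H hw hδ))⁻¹ ∈ R H v
      rw [← hc.eq, mul_inv_cancel_right]
      exact hx
    obtain ⟨b, hb⟩ := Submodule.mem_span_singleton.1
      (eq_of_R H hd (H.isom_ne_zero _ hv0) (iso_map H _ hv) hv e)
    rw [tr_apply] at hb
    by_contra h0
    have hne : δ * H.h v w ≠ 0 := mul_ne_zero hδ0 h0
    have hwv : w = ((δ * H.h v w)⁻¹ * (b - 1)) • v := by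
      rw [mul_smul, sub_smul, one_smul, hb, add_sub_cancel_left, smul_smul, inv_mul_cancel₀ hne, one_smul]
    exact h0 (by rw [hwv, H.smul_right, hv, mul_zero])
  · intro h x hx y hy
    obtain ⟨c, hc, rfl⟩ := (mem_R H hv).1 hx
    obtain ⟨d, hd', rfl⟩ := (mem_R H hw).1 hy
    refine Commute.map ?_ (pr H)
    refine Subtype.ext (H.isom_ext fun x => ?_)
    show (tr H hv hc).1.1 ((tr H hw hd').1.1 x) = (tr H hw hd').1.1 ((tr H hv hc).1.1 x)
    simp only [tr_apply, H.add_left, H.smul_left, h, H.eq_zero_symm h]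
    module

/-- The special isometries fixing a subspace pointwise. -/
def fixSub (W : Submodule F V) : Subgroup H.SIsom where
  carrier := {g | ∀ x ∈ W, g.1.1 x = x}
  mul_mem' {a b} ha hb x hx := by
    show a.1.1 (b.1.1 x) = x
    rw [hb x hx, ha x hx]
  one_mem' _ _ := rfl
  inv_mem' {a} ha x hx := by
    show (a.1⁻¹).1 x = x
    conv_lhs => rw [← ha x hx]
    exact H.inv_apply_self a.1 x

/-- The isotropic points of a hyperbolic line are the root groups in the group two of them generate. -/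
theorem R_le_sup_iff (hd : 3 ≤ Module.finrank F V) {v w z : V} (hv : H.h v v = 0) (hw : H.h w w = 0)
    (hz : H.h z z = 0) (hvw : H.h v w ≠ 0) : R H z ≤ R H v ⊔ R H w ↔ z ∈ Submodule.span F {v, w} := by
  constructor
  · intro h
    set W := H.orth (Submodule.span F ({v, w} : Set V)) with hW
    have hle : R H v ⊔ R H w ≤ (fixSub H W).map (pr H) := by
      refine sup_le ?_ ?_
      · intro x hx
        obtain ⟨c, hc, rfl⟩ := (mem_R H hv).1 hx
        exact ⟨_, fun y hy => by rw [tr_apply, hy v (Submodule.subset_span (by simp)), mul_zero, zero_smul, add_zero],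
          rfl⟩
      · intro x hx
        obtain ⟨c, hc, rfl⟩ := (mem_R H hw).1 hx
        exact ⟨_, fun y hy => by rw [tr_apply, hy w (Submodule.subset_span (by simp)), mul_zero, zero_smul, add_zero],
          rfl⟩
    obtain ⟨δ, hδ0, hδ⟩ := H.conj.exists_skew
    obtain ⟨s, hs, e⟩ := hle (h (tr_mem_R H hz hδ))
    obtain ⟨c, hc, e⟩ := (pr_eq_iff H).1 e
    obtain ⟨a, ha, hca⟩ := center_scalar H (by omega) hc
    rw [← H.orth_orth (Submodule.span F ({v, w} : Set V))]
    intro x hx
    refine H.eq_zero_symm ?_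
    by_contra h0
    have e1 := congrArg (fun g : H.SIsom => g.1.1 x) e
    change s.1.1 (c.1.1 x) = (tr H hz hδ).1.1 x at e1
    rw [hca, map_smul, hs x hx, tr_apply] at e1
    have hz' : z = ((δ * H.h x z)⁻¹ * (a - 1)) • x := by
      rw [mul_smul, sub_smul, one_smul, e1, add_sub_cancel_left, smul_smul,
        inv_mul_cancel₀ (mul_ne_zero hδ0 h0), one_smul]
    rw [hz', H.smul_left, H.smul_right] at hz
    rcases mul_eq_zero.1 hz with h1 | h1
    · rw [h1, zero_smul] at hz'
      exact h0 (by rw [hz', H.zero_right])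
    rcases mul_eq_zero.1 h1 with h2 | h2
    · rw [H.conj.eq_zero] at h2
      rw [h2, zero_smul] at hz'
      exact h0 (by rw [hz', H.zero_right])
    · exact h0 (by rw [hz', H.smul_right, h2, mul_zero])
  · intro h
    obtain ⟨a, b, rfl⟩ := Submodule.mem_span_pair.1 h
    by_cases hb : b = 0
    · subst hb
      rw [zero_smul, add_zero]
      rcases eq_or_ne a 0 with rfl | ha
      · rw [zero_smul]
        intro x hx
        obtain ⟨c, hc, rfl⟩ := (mem_R H (H.zero_left 0)).1 hx
        rw [show tr H (H.zero_left 0) hc = 1 from Subtype.ext (H.uT_eq_one_of_zero hc), map_one]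
        exact one_mem _
      · rw [R_smul H hv ha]; exact le_sup_left
    · have hwv : H.h w v ≠ 0 := fun e => hvw (H.eq_zero_symm e)
      have hc : a / b / H.h w v + H.σ (a / b / H.h w v) = 0 := by
        simp only [H.add_left, H.add_right, H.smul_left, H.smul_right, hv, hw] at hz
        rw [map_div₀, map_div₀, ← H.symm v w]
        have hsb : H.σ b ≠ 0 := (map_ne_zero H.σ).2 hb
        field_simp
        linear_combination hz
      have hg : a • v + b • w = b • (tr H hv hc).1.1 w := by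
        rw [tr_apply, smul_add, smul_smul, add_comm]
        congr 2
        field_simp
      rw [hg, R_smul H (iso_map H _ hw) hb, ← R_map_conj H _ hw]
      rintro _ ⟨x, hx, rfl⟩
      show pr H (tr H hv hc) * x * (pr H (tr H hv hc))⁻¹ ∈ _
      have h1 : pr H (tr H hv hc) ∈ R H v ⊔ R H w := Subgroup.mem_sup_left (tr_mem_R H hv hc)
      exact mul_mem (mul_mem h1 (Subgroup.mem_sup_right hx)) (inv_mem h1)

/-- Totally isotropic lines are determined by perpendicularity. -/
theorem mem_span_of_perp {x y z : V} (hx : H.h x x = 0) (hy : H.h y y = 0) (hxy : H.h x y = 0) (hz : H.h z z = 0)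
    (h : ∀ w, w ≠ 0 → H.h w w = 0 → H.h w x = 0 → H.h w y = 0 → H.h w z = 0) :
    z ∈ Submodule.span F {x, y} := by
  by_contra hn
  obtain ⟨φ, hφz, hφ⟩ := Submodule.exists_dual_map_eq_bot_of_notMem hn inferInstance
  have h0 : ∀ u ∈ Submodule.span F ({x, y} : Set V), φ u = 0 := fun u hu => by
    have : φ u ∈ (Submodule.span F {x, y}).map φ := Submodule.mem_map_of_mem hu
    rwa [hφ, Submodule.mem_bot] at this
  obtain ⟨v, hv⟩ := H.exists_lin ((φ z)⁻¹ • φ)
  have hzv : H.h z v = 1 := by rw [hv, LinearMap.smul_apply, smul_eq_mul, inv_mul_cancel₀ hφz]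
  have hxv : H.h x v = 0 := by rw [hv, LinearMap.smul_apply, h0 x (Submodule.subset_span (by simp)), smul_zero]
  have hyv : H.h y v = 0 := by rw [hv, LinearMap.smul_apply, h0 y (Submodule.subset_span (by simp)), smul_zero]
  have hzx : H.h z x = 0 := by
    rcases eq_or_ne x 0 with rfl | hx0
    · exact H.zero_right z
    · exact H.eq_zero_symm (h x hx0 hx hx hxy)
  have hzy : H.h z y = 0 := by
    rcases eq_or_ne y 0 with rfl | hy0
    · exact H.zero_right z
    · exact H.eq_zero_symm (h y hy0 hy (H.eq_zero_symm hxy) hy)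
  obtain ⟨θ, hθ⟩ := H.conj.exists_trace_one
  set w := v - (θ * H.h v v) • z with hw
  have hw1 : H.h z w = 1 := by rw [hw, H.sub_right, H.smul_right, hz, mul_zero, sub_zero, hzv]
  have hw0 : H.h w w = 0 := by
    rw [hw]
    simp only [H.sub_left, H.sub_right, H.smul_left, H.smul_right, hz, hzv, H.symm v z, map_one, map_mul,
      H.self_fixed]
    linear_combination (-H.h v v) * hθ
  have := h w (fun e => by rw [e, H.zero_right] at hw1; exact zero_ne_one hw1) hw0
    (H.eq_zero_symm (by rw [hw, H.sub_right, H.smul_right, H.eq_zero_symm hzx, mul_zero, sub_zero, hxv]))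
    (H.eq_zero_symm (by rw [hw, H.sub_right, H.smul_right, H.eq_zero_symm hzy, mul_zero, sub_zero, hyv]))
  exact one_ne_zero (hw1.symm.trans (H.eq_zero_symm this))

end Cfsg.Lib.Unitary
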