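import Cfsg.Agent.Known.Unit.Std
import Cfsg.Agent.Known.FieldCosetMain
import Cfsg.Agent.Known.FieldAutLight

/-!
Field automorphisms of `PSU`: kernel of the semilinear action, twisted Hilbert 90 for `GU`, conjugacy in cosets.
-/

set_option autoImplicit false
set_option linter.unusedSectionVars false

namespace Cfsg.Lib.Unitary

open Matrix Cfsg.Lib.Classical
open Cfsg.Lib.Known.AutPSLn (tnorm tnorm_succ' mul_twist_pow exists_pow_norm glMap coe_glMap hilbert90)

universe u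

variable {F : Type u} [Field F] [Fintype F] {n q : ℕ}

local notation "Mn" => Matrix (Fin n) (Fin n) F
local notation "GLn" => GL (Fin n) F
local notation "SUn" => Cfsg.SU n F q
local notation "GUn" => Cfsg.GU n F q
local notation "Qn" => Cfsg.PSU n F q
local notation "πU" => QuotientGroup.mk' (Subgroup.center (Cfsg.SU n F q))

theorem powConj_comm (hF : Fintype.card F = q ^ 2) (σ : F ≃+* F) (x : F) :
    σ (powConj hF x) = powConj hF (σ x) := by
  rw [powConj_apply, powConj_apply, map_pow]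

/-- The norm one units. -/
noncomputable abbrev N1 (hF : Fintype.card F = q ^ 2) : Subgroup Fˣ := (normUnits (powConj hF)).ker

theorem mem_N1 (hF : Fintype.card F = q ^ 2) (u : Fˣ) : u ∈ N1 hF ↔ (u : F) * powConj hF u = 1 := by
  rw [MonoidHom.mem_ker, Units.ext_iff, coe_normUnits, Units.val_one]

theorem card_N1 (hF : Fintype.card F = q ^ 2) : Nat.card (N1 hF) = q + 1 := by
  rw [(powConj_isConj hF).card_norm_ker, show Nat.card (fixedField (powConj hF)) = q from
    (exists_conj_pow hF).choose_spec.2.2]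

theorem cst_mul (φ : F →+* F) (A B : Mn) :
    UnitaryConj.cst φ (A * B) = UnitaryConj.cst φ B * UnitaryConj.cst φ A := by
  rw [UnitaryConj.cst, UnitaryConj.cst, UnitaryConj.cst, Matrix.map_mul, Matrix.transpose_mul]

/-- Scalar unitary matrices. -/
noncomputable def scU (hF : Fintype.card F = q ^ 2) : N1 hF →* GUn :=
  ((Units.map (Matrix.scalar (Fin n) : F →+* Mn).toMonoidHom).comp (N1 hF).subtype).codRestrict (Cfsg.GU n F q)
    fun u => (UnitaryConj.mem_GU hF _).2 (by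
      show UnitaryConj.cst (powConj hF) (Matrix.scalar (Fin n) ((u : Fˣ) : F)) * Matrix.scalar (Fin n) ((u : Fˣ) : F) = 1
      rw [UnitaryConj.cst, scalar_apply, diagonal_map (map_zero _), diagonal_transpose, diagonal_mul_diagonal,
        ← diagonal_one]
      refine congrArg diagonal (funext fun _ => ?_)
      rw [mul_comm]
      exact (mem_N1 hF u.1).1 u.2)

theorem coe_scU (hF : Fintype.card F = q ^ 2) (u : N1 hF) :
    (((scU hF u : GUn) : GLn) : Mn) = ((u : Fˣ) : F) • 1 := by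
  show Matrix.scalar (Fin n) ((u : Fˣ) : F) = _
  rw [scalar_apply, smul_one_eq_diagonal]

theorem coe_gu_mul (g h : GUn) :
    (((g * h : GUn) : GLn) : Mn) = ((g : GLn) : Mn) * ((h : GLn) : Mn) := rfl

theorem scU_comm (hF : Fintype.card F = q ^ 2) (u : N1 hF) (g : GUn) : scU hF u * g = g * scU hF u := gu_ext (by
  rw [coe_gu_mul, coe_gu_mul, coe_scU, Matrix.smul_mul, Matrix.one_mul, Matrix.mul_smul, Matrix.mul_one])

theorem scU_injective (hF : Fintype.card F = q ^ 2) (hn : 0 < n) : Function.Injective (scU (n := n) hF) := by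
  intro u v h
  have h1 := congrArg (fun g : GUn => ((g : GLn) : Mn) ⟨0, hn⟩ ⟨0, hn⟩) h
  simp only [coe_scU, Matrix.smul_apply, Matrix.one_apply_eq, smul_eq_mul, mul_one] at h1
  exact Subtype.ext (Units.ext h1)

theorem conjU_scU (hF : Fintype.card F = q ^ 2) (u : N1 hF) : (conjU (scU hF u) : MulAut Qn) = 1 :=
  MulEquiv.ext fun x => QuotientGroup.induction_on x fun s => congrArg πU (suToGU_injective (by
    show suToGU (conjFun (scU hF u) s) = suToGU s
    rw [suToGU_conjFun, scU_comm, mul_inv_cancel_right]))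

theorem guAut_scU (hF : Fintype.card F = q ^ 2) (σ : F ≃+* F) (u v : N1 hF)
    (h : ((v : Fˣ) : F) = σ ((u : Fˣ) : F)) : guAut σ (scU hF u : GUn) = scU hF v := gu_ext (by
  rw [coe_guAut, coe_scU, coe_scU, h]
  ext i j
  by_cases hij : i = j <;> simp [hij])

theorem semilinear_scalar (hF : Fintype.card F = q ^ 2) (hn : 3 ≤ n) {g : GUn} {σ : F ≃+* F}
    (hfix : ∀ v : Fin n → F, v ≠ 0 → (stdHerm n hF).h v v = 0 →
      ∃ b : F, ((g : GLn) : Mn) *ᵥ (σ ∘ v) = b • v) :
    (∃ u : N1 hF, g = scU hF u) ∧ σ = 1 := by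
  classical
  set H := stdHerm n hF with hH
  set Ψ : (Fin n → F) → (Fin n → F) := fun v => ((g : GLn) : Mn) *ᵥ (σ ∘ v) with hΨdef
  have hadd : ∀ x y, Ψ (x + y) = Ψ x + Ψ y := fun x y => by
    show _ *ᵥ _ = _ *ᵥ _ + _ *ᵥ _
    rw [← mulVec_add]; congr 1; funext i; simp
  have hsmul : ∀ (a : F) x, Ψ (a • x) = σ a • Ψ x := fun a x => by
    show _ *ᵥ _ = _ • (_ *ᵥ _)
    rw [← mulVec_smul]; congr 1; funext i; simp
  have hform : ∀ x y, H.h (Ψ x) (Ψ y) = σ (H.h x y) := fun x y => by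
    rw [hH, stdHerm_h, stdHerm_h, gu_form]
    simp [Cfsg.hermForm, map_sum]
  have hd : Module.finrank F (Fin n → F) = n := Module.finrank_fin_fun F
  obtain ⟨e, he0, he⟩ := H.exists_isotropic_of_two_le (by omega)
  obtain ⟨f₁, hef, hff⟩ := H.exists_hyperbolic he0 he
  let P : Frame H := ⟨e, f₁, he, hff, by rw [H.symm, hef, map_one]⟩
  obtain ⟨a, ha⟩ : ∃ a, Ψ P.e = a • P.e := hfix _ P.e_ne P.he
  obtain ⟨b, hb⟩ : ∃ b, Ψ P.f = b • P.f := hfix _ P.f_ne P.hf
  have hab : a * H.σ b = 1 := by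
    have h1 := hform P.e P.f
    rw [ha, hb, H.smul_left, H.smul_right, P.hef, mul_one, map_one] at h1
    exact h1
  have hW : ∀ w ∈ P.W, Ψ w ∈ P.W := by
    intro w hw
    obtain ⟨h1, h2⟩ := P.mem_W.1 hw
    refine P.mem_W.2 ⟨?_, ?_⟩
    · have h3 := hform w P.e
      rw [ha, H.smul_right, h1, map_zero, mul_eq_zero] at h3
      exact h3.resolve_left fun h0 => by
        rw [H.conj.eq_zero] at h0; rw [h0, zero_mul] at hab; exact zero_ne_one hab
    · have h3 := hform w P.f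
      rw [hb, H.smul_right, h2, map_zero, mul_eq_zero] at h3
      exact h3.resolve_left fun h0 => by
        rw [h0, mul_zero] at hab; exact zero_ne_one hab
  have hpt : ∀ w c, P.Valid w c → Ψ w = b • w ∧ σ c * a = b * c := by
    intro w c h
    obtain ⟨γ, hγ⟩ : ∃ γ, Ψ (P.pt w c) = γ • P.pt w c := hfix _ (P.pt_ne h) (P.pt_iso h)
    have hsum : Ψ (P.pt w c) = b • P.f + Ψ w + (σ c * a) • P.e := by
      rw [Frame.pt, hadd, hadd, hsmul, hb, ha, smul_smul]
    rw [hsum, Frame.pt] at hγ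
    have hw := P.mem_W.1 h.1
    have hw' := P.mem_W.1 (hW w h.1)
    have e1 := congrArg (fun z => H.h z P.e) hγ
    have e2 := congrArg (fun z => H.h z P.f) hγ
    simp only [H.add_left, H.smul_left, P.hfe, P.he, P.hf, P.hef, hw.1, hw.2, hw'.1, hw'.2, mul_one, mul_zero,
      add_zero, zero_add] at e1 e2
    subst e1
    refine ⟨?_, e2⟩
    rw [e2, mul_smul] at hγ
    linear_combination (norm := module) hγ
  obtain ⟨w, hw, hww⟩ : ∃ w ∈ P.W, H.h w w ≠ 0 := by
    have : Nontrivial P.W := Module.nontrivial_of_finrank_pos (R := F) (by rw [P.finrank_W]; omega)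
    obtain ⟨w, hw⟩ := (H.restrict P.W P.nondeg_W).exists_anisotropic
    exact ⟨w.1, w.2, hw⟩
  have hw0 : w ≠ 0 := fun h => hww (by rw [h, H.zero_left])
  have hb0 : b ≠ 0 := fun h0 => by rw [h0, map_zero, mul_zero] at hab; exact zero_ne_one hab
  obtain ⟨c, hc⟩ := P.exists_valid hw
  have hσ : σ = 1 := RingEquiv.ext fun μ => by
    obtain ⟨c', hc'⟩ := P.exists_valid (P.W.smul_mem μ hw)
    have e := (hpt _ _ hc').1
    rw [hsmul, (hpt _ _ hc).1, smul_smul, smul_smul] at e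
    have := smul_left_injective F hw0 e
    show σ μ = μ
    exact mul_right_cancel₀ hb0 (this.trans (mul_comm b μ))
  subst hσ
  have hc0 : c ≠ 0 := fun h0 => by
    have := hc.2
    rw [h0, map_zero, add_zero, eq_comm, neg_eq_zero] at this
    exact hww this
  have hab' : a = b := mul_left_cancel₀ hc0 ((hpt _ _ hc).2.trans (mul_comm b c))
  have hall : ∀ x, Ψ x = b • x := by
    intro x
    obtain ⟨c', hc'⟩ := P.exists_valid (P.proj_mem x)
    rw [P.decomp x, hadd, hadd, hsmul, hsmul, ha, hb, (hpt _ _ hc').1, hab', smul_add, smul_add,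
      smul_comm b, smul_comm b]
    rfl
  subst hab'
  refine ⟨⟨⟨Units.mk0 a hb0, (mem_N1 hF _).2 hab⟩, gu_ext ?_⟩, rfl⟩
  rw [coe_scU]
  refine Matrix.ext_of_mulVec_single fun i => ?_
  rw [smul_mulVec, one_mulVec]
  exact hall (Pi.single i 1)

/-- The kernel of the semilinear action. -/
theorem conjU_fieldU_eq_one (hF : Fintype.card F = q ^ 2) (hn : 3 ≤ n) {g : GUn} {σ : F ≃+* F}
    (h : (conjU g : MulAut Qn) * fieldU σ = 1) : (∃ u : N1 hF, g = scU hF u) ∧ σ = 1 := by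
  classical
  set H := stdHerm n hF with hH
  let E := suEquiv n hF
  have hd : 3 ≤ Module.finrank F (Fin n → F) := by rw [Module.finrank_fin_fun F]; exact hn
  have hc : ∀ (t : SUn) (x : Fin n → F), (E.symm t).1.1 x = smat t *ᵥ x := fun t x => by
    conv_rhs => rw [← E.apply_symm_apply t, smat, suEquiv_coe, unitToGL_mulVec]
  have hcen : ∀ z ∈ Subgroup.center SUn, E.symm z ∈ Subgroup.center H.SIsom := fun z hz =>
    Subgroup.mem_center_iff.2 fun x => E.injective (by
      rw [map_mul, map_mul, E.apply_symm_apply]; exact Subgroup.mem_center_iff.1 hz _)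
  refine semilinear_scalar hF hn fun v hv0 hv => ?_
  set Ψv := ((g : GLn) : Mn) *ᵥ (σ ∘ v) with hΨv
  have hform : ∀ x y, H.h (((g : GLn) : Mn) *ᵥ (σ ∘ x)) (((g : GLn) : Mn) *ᵥ (σ ∘ y)) = σ (H.h x y) := fun x y => by
    rw [hH, stdHerm_h, stdHerm_h, gu_form]
    simp [Cfsg.hermForm, map_sum]
  have hiso : H.h Ψv Ψv = 0 := by rw [hΨv, hform, hv, map_zero]
  suffices hle : R H v ≤ R H Ψv by
    obtain ⟨b, hb⟩ := Submodule.mem_span_singleton.1 (eq_of_R H hd hv0 hv hiso hle)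
    have hb0 : b ≠ 0 := fun h0 => hv0 (by rw [← hb, h0, zero_smul])
    exact ⟨b⁻¹, by rw [← hb, smul_smul, inv_mul_cancel₀ hb0, one_smul]⟩
  intro x hx
  obtain ⟨c, hcc, rfl⟩ := (mem_R H hv).1 hx
  have hcc' : σ c + H.σ (σ c) = 0 := by
    show σ c + powConj hF (σ c) = 0
    rw [← powConj_comm, ← map_add]
    exact (congrArg σ hcc).trans (map_zero σ)
  set s := E (tr H hv hcc) with hs
  obtain ⟨z, hz, ez⟩ := (QuotientGroup.mk'_eq_mk' _).1
    (show πU (conjSU g (fieldSU σ s)) = πU s from DFunLike.congr_fun h (πU s))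
  have e : E.symm (conjSU g (fieldSU σ s)) = tr H hiso hcc' := by
    refine Subtype.ext (H.isom_ext fun y => ?_)
    set y' := ((g : GLn)⁻¹ : GLn).val *ᵥ y with hy'
    have hy : y = ((g : GLn) : Mn) *ᵥ (σ ∘ (σ.symm ∘ y')) := by
      rw [show σ ∘ (σ.symm ∘ y') = y' from funext fun i => σ.apply_symm_apply _, hy', mulVec_mulVec,
        Units.mul_inv, one_mulVec]
    rw [hc, coe_conjSU, coe_fieldSU, ← mulVec_mulVec, ← mulVec_mulVec, ← hy']
    have hs' : (smat s).map σ *ᵥ y' = σ ∘ ((tr H hv hcc).1.1 (σ.symm ∘ y')) := by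
      rw [← E.symm_apply_apply (tr H hv hcc), hc]
      funext i
      simp [mulVec, dotProduct, map_sum, hs]
    rw [hs']
    conv_rhs => rw [hy, tr_apply, hΨv, hform, ← map_mul, ← mulVec_smul, ← mulVec_add]
    rw [tr_apply]
    congr 1
    funext i
    simp
  refine (mem_R H hiso).2 ⟨σ c, hcc', (pr_eq_iff H).2 ⟨E.symm z, hcen z hz, ?_⟩⟩
  rw [← e, ← map_mul, ez, hs, E.symm_apply_apply]

theorem conjU_eq_one_iff (hF : Fintype.card F = q ^ 2) (hn : 3 ≤ n) (g : GUn) :
    (conjU g : MulAut Qn) = 1 ↔ ∃ u : N1 hF, g = scU hF u :=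
  ⟨fun h => (conjU_fieldU_eq_one hF hn (g := g) (σ := 1) (by rw [h, map_one, one_mul])).1,
    fun ⟨u, hu⟩ => hu ▸ conjU_scU hF u⟩

theorem inndiag_normal (p : ℕ) [Fact p.Prime] [CharP F p] (hF : Fintype.card F = q ^ 2) (hn : 3 ≤ n)
    (hs : n = 3 → 3 ≤ q) {α δ : MulAut Qn} (hδ : δ ∈ Cfsg.inndiagPSU n F q) :
    α * δ * α⁻¹ ∈ Cfsg.inndiagPSU n F q := by
  obtain ⟨a, τ, rfl⟩ := exists_decomp p hF hn hs α
  rw [inndiag_eq] at hδ ⊢
  obtain ⟨g, rfl⟩ := hδ
  refine ⟨a * guAut τ g * a⁻¹, ?_⟩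
  rw [map_mul, map_mul, map_inv]
  calc conjU a * conjU (guAut τ g) * (conjU a)⁻¹
      = conjU a * (conjU (guAut τ g) * fieldU τ) * (conjU a * fieldU τ)⁻¹ := by group
    _ = _ := by rw [← fieldU_mul_conjU]; group

theorem tnorm_coe (σ : F ≃+* F) (g : GUn) : ∀ k : ℕ,
    ((tnorm (guAut σ) g k : GUn) : GLn) = tnorm (glMap σ) (g : GLn) k
  | 0 => rfl
  | k + 1 => by rw [tnorm, tnorm, Subgroup.coe_mul, ← tnorm_coe σ g k]; rfl

theorem exists_conj_moved (hF : Fintype.card F = q ^ 2) {σ : F ≃+* F} {r : ℕ} (hord : orderOf σ = r)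
    (hr : Odd r) : ∃ a : F, σ a = a ∧ powConj hF a ≠ a := by
  classical
  by_contra hc
  push Not at hc
  have : Finite (F ≃+* F) := Finite.of_injective (fun e => (e : F → F)) DFunLike.coe_injective
  let S : Subgroup (F ≃+* F) := Subgroup.zpowers σ
  have : Fintype S := Fintype.ofFinite S
  let φA : F →ₐ[FixedPoints.subfield S F] F :=
    { powConj hF with commutes' := fun l => hc (l : F) (l.2 ⟨σ, Subgroup.mem_zpowers σ⟩) }
  obtain ⟨k, hk⟩ := (FixedPoints.toAlgHom_bijective S F).2 φA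
  have hk' : ∀ x, powConj hF x = (k : F ≃+* F) x := fun x => (DFunLike.congr_fun hk x).symm
  have hkr : (k : F ≃+* F) ^ r = 1 := by
    obtain ⟨i, hi⟩ := Subgroup.mem_zpowers_iff.1 k.2
    rw [← hi, ← zpow_natCast, ← _root_.zpow_mul, mul_comm, _root_.zpow_mul, zpow_natCast, ← hord,
      pow_orderOf_eq_one, _root_.one_zpow]
  obtain ⟨m, rfl⟩ := hr
  obtain ⟨a, ha⟩ := (powConj_isConj hF).ne_id
  have hk2 : (k : F ≃+* F) ^ 2 = 1 := RingEquiv.ext fun x => by
    rw [pow_two, RingAut.mul_apply, ← hk', ← hk', (powConj_isConj hF).invol]; rfl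
  refine ha ?_
  rw [pow_succ, pow_mul, hk2, one_pow, one_mul] at hkr
  rw [hk', hkr]; rfl

/-- Hilbert 90 for the unitary group. -/
theorem hilbert90_gu (hF : Fintype.card F = q ^ 2) {σ : F ≃+* F} {r : ℕ} (hord : orderOf σ = r) (hr : Odd r)
    (g : GUn) (hg : tnorm (guAut σ) g r = 1) : ∃ h : GUn, g * guAut σ h = h := by
  classical
  set φ := powConj hF with hφ
  obtain ⟨h, hh⟩ := hilbert90 hord hr.pos (g : GLn) (by rw [← tnorm_coe, hg]; rfl)
  have hh' : ((g : GLn) : Mn) * (h : Mn).map σ = (h : Mn) := congrArg Units.val hh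
  set A : Mn := UnitaryConj.cst φ (h : Mn) * (h : Mn) with hA
  have hgc : UnitaryConj.cst φ ((g : GLn) : Mn) * ((g : GLn) : Mn) = 1 := (UnitaryConj.mem_GU hF _).1 g.2
  have hφσ : ∀ M : Mn, (UnitaryConj.cst φ M).map σ = UnitaryConj.cst φ (M.map σ) := fun M => by
    ext i j; exact powConj_comm hF σ _
  have hAs : A.map σ = A := by
    rw [hA, Matrix.map_mul, hφσ]
    conv_rhs => rw [← hh']
    rw [cst_mul, Matrix.mul_assoc, ← Matrix.mul_assoc (UnitaryConj.cst φ ((g : GLn) : Mn)), hgc, Matrix.one_mul]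
  let L : Subfield F := RingHom.eqLocusField σ.toRingHom (RingHom.id F)
  have hmemL : ∀ x, σ x = x → x ∈ L := fun x hx => hx
  let φL : L →+* L := (φ.comp L.subtype).codRestrict L fun x =>
    hmemL _ (by rw [RingHom.comp_apply, hφ, powConj_comm]; exact congrArg _ x.2)
  have hφL : IsConj φL := by
    refine ⟨fun a => Subtype.ext ((powConj_isConj hF).invol _), ?_⟩
    obtain ⟨a, ha, ha'⟩ := exists_conj_moved hF hord hr
    exact ⟨⟨a, hmemL a ha⟩, fun e => ha' (congrArg Subtype.val e)⟩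
  let A0 : Matrix (Fin n) (Fin n) L := Matrix.of fun i j => ⟨A i j, congrFun (congrFun hAs i) j⟩
  have hcstA : UnitaryConj.cst φL A0 = A0 := by
    ext i j
    show φ (A j i) = A i j
    simp only [hA, UnitaryConj.cst, Matrix.mul_apply, transpose_apply, Matrix.map_apply, map_sum, map_mul]
    refine Finset.sum_congr rfl fun k _ => ?_
    rw [show φ (φ (h.val k j)) = h.val k j from (powConj_isConj hF).invol _, mul_comm]
  have hdet : A0.det ≠ 0 := by
    intro h0
    have h1 : A.det = 0 := by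
      rw [show A = A0.map L.subtype from rfl, ← RingHom.mapMatrix_apply, ← RingHom.map_det, h0, map_zero]
    have h2 : (h : Mn).det ≠ 0 := GeneralLinearGroup.det_ne_zero h
    rw [hA, det_mul, mul_eq_zero, or_iff_left h2, UnitaryConj.cst, det_transpose, ← RingHom.mapMatrix_apply,
      ← RingHom.map_det, map_eq_zero] at h1
    exact h2 h1
  let HL : HermSpace L (Fin n → L) :=
    { σ := φL
      h := fun u v => (φL ∘ v) ⬝ᵥ (A0 *ᵥ u)
      conj := hφL
      add_left := fun x y z => by rw [mulVec_add, dotProduct_add]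
      smul_left := fun c x z => by rw [mulVec_smul, dotProduct_smul]; rfl
      symm := fun x y => by
        show (φL ∘ y) ⬝ᵥ (A0 *ᵥ x) = φL ((φL ∘ x) ⬝ᵥ (A0 *ᵥ y))
        conv_lhs => rw [← hcstA]
        simp only [dotProduct, mulVec, Function.comp_apply, map_sum, map_mul, UnitaryConj.cst, transpose_apply,
          Matrix.map_apply, hφL.invol, Finset.mul_sum]
        rw [Finset.sum_comm]
        exact Finset.sum_congr rfl fun i _ => Finset.sum_congr rfl fun j _ => by ring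
      nondeg := fun v hv => by
        have h1 : ∀ w, (φL ∘ v) ⬝ᵥ w = 0 := fun w => by
          have := hv (A0⁻¹ *ᵥ w)
          rwa [mulVec_mulVec, Matrix.mul_nonsing_inv _ (isUnit_iff_ne_zero.2 hdet), one_mulVec] at this
        have h2 := dotProduct_eq_zero _ h1
        funext i
        exact hφL.eq_zero.1 (congrFun h2 i) }
  obtain ⟨b, hb⟩ := HL.exists_orthonormal
  have hdim : Module.finrank L (Fin n → L) = n := Module.finrank_fin_fun L
  let k0 : Matrix (Fin n) (Fin n) L := Matrix.of fun i j => b (finCongr hdim.symm j) i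
  have hk0 : UnitaryConj.cst φL k0 * A0 * k0 = 1 := by
    refine Matrix.ext fun i j => ?_
    have h1 := hb (finCongr hdim.symm j) (finCongr hdim.symm i)
    rw [Matrix.mul_assoc, Matrix.mul_apply, Matrix.one_apply]
    simp only [EmbeddingLike.apply_eq_iff_eq] at h1
    rw [show (if i = j then (1 : L) else 0) = if j = i then 1 else 0 from by simp only [eq_comm], ← h1]
    show _ = (φL ∘ b (finCongr hdim.symm i)) ⬝ᵥ (A0 *ᵥ b (finCongr hdim.symm j))
    rfl
  let K : Mn := k0.map L.subtype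
  have hK : UnitaryConj.cst φ K * A * K = 1 := by
    have h1 := congrArg (fun M : Matrix (Fin n) (Fin n) L => M.map L.subtype) hk0
    simp only [Matrix.map_mul, Matrix.map_one L.subtype (map_zero _) (map_one _)] at h1
    exact h1
  obtain ⟨k, hk⟩ := UnitaryConj.exists_GU_of hF ((h : Mn) * K)
    (by rw [← hφ, cst_mul, ← hK, hA]; simp only [Matrix.mul_assoc])
  refine ⟨k, gu_ext ?_⟩
  rw [coe_gu_mul, coe_guAut, hk, Matrix.map_mul, ← Matrix.mul_assoc, hh']
  congr 1
  ext i j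
  exact (k0 i j).2

theorem guAut_one (g : GUn) : guAut (1 : F ≃+* F) g = g := by rw [map_one]; rfl

theorem field_case (hF : Fintype.card F = q ^ 2) (hn : 3 ≤ n) {σ : F ≃+* F} (hσ : σ ≠ 1) (hodd : Odd (orderOf σ))
    {r : ℕ} (hr : r.Prime) (hφ : (fieldU σ : MulAut Qn) ^ r = 1) {g : GUn}
    (hg : ((conjU g : MulAut Qn) * fieldU σ) ^ r = 1) :
    ∃ h : GUn, (conjU g : MulAut Qn) * fieldU σ = conjU h * fieldU σ * (conjU h)⁻¹ := by
  set φ := powConj hF with hφd
  have hσr : σ ^ r = 1 :=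
    (conjU_fieldU_eq_one hF hn (g := 1) (by rw [map_one, one_mul, map_pow, hφ])).2
  have : Fact r.Prime := ⟨hr⟩
  have hord : orderOf σ = r := orderOf_eq_prime hσr hσ
  rw [hord] at hodd
  rw [mul_twist_pow conjU (guAut σ) (fieldU σ) (fieldU_mul_conjU σ), hφ, mul_one] at hg
  obtain ⟨⟨l, hl⟩, -⟩ := conjU_fieldU_eq_one hF hn (g := tnorm (guAut σ) g r) (σ := 1)
    (by rw [hg, map_one, one_mul])
  have himg : ∀ (τ : F ≃+* F) (u : N1 hF), Units.map τ.toRingHom.toMonoidHom (u : Fˣ) ∈ N1 hF := fun τ u => by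
    rw [mem_N1]
    show τ ((u : Fˣ) : F) * φ (τ ((u : Fˣ) : F)) = 1
    rw [hφd, ← powConj_comm, ← map_mul, (mem_N1 hF _).1 u.2, map_one]
  let tw : (F ≃+* F) → N1 hF → N1 hF := fun τ u => ⟨_, himg τ u⟩
  have htw : ∀ τ u, guAut τ (scU hF u : GUn) = scU hF (tw τ u) := fun τ u => guAut_scU hF τ u _ rfl
  set L : F := ((l : Fˣ) : F) with hL
  have hL0 : L ≠ 0 := (l : Fˣ).ne_zero
  have hfix : σ L = L := by
    have h1 : g * guAut σ (tnorm (guAut σ) g r) = tnorm (guAut σ) g r * ((guAut σ : MulAut GUn) ^ r) g :=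
      tnorm_succ' (guAut σ) g r
    rw [hl, htw, ← map_pow, hσr, guAut_one, ← scU_comm, mul_left_inj] at h1
    exact congrArg (fun z : N1 hF => ((z : Fˣ) : F)) (scU_injective hF (by omega) h1)
  have hLφ : L * φ L = 1 := (mem_N1 hF _).1 l.2
  obtain ⟨a0, ha0⟩ := exists_pow_norm hord hr.pos (x := L⁻¹) (by rw [map_inv₀, hfix])
  have ha00 : a0 ≠ 0 := by
    rintro rfl
    exact inv_ne_zero hL0 (ha0.symm.trans (Finset.prod_eq_zero (Finset.mem_range.2 hr.pos) (map_zero _)))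
  have hφa0 : φ a0 ≠ 0 := (map_ne_zero φ).2 ha00
  obtain ⟨m, hm⟩ := hodd
  set a : F := L⁻¹ * ((a0 / φ a0) ^ m)⁻¹ with had
  have hpow : ∀ (i : ℕ), (σ ^ i) L = L := fun i => by
    induction i with
    | zero => rfl
    | succ i ih => rw [pow_succ, RingAut.mul_apply, hfix, ih]
  have ha : ∏ i ∈ Finset.range r, (σ ^ i) a = L⁻¹ := by
    have e1 : ∏ i ∈ Finset.range r, (σ ^ i) (φ a0) = φ L⁻¹ := by
      rw [← ha0, map_prod]
      exact Finset.prod_congr rfl fun i _ => powConj_comm hF _ _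
    have hφL : φ L = L⁻¹ := eq_inv_of_mul_eq_one_right hLφ
    calc ∏ i ∈ Finset.range r, (σ ^ i) a
        = ∏ i ∈ Finset.range r, L⁻¹ * (((σ ^ i) a0 / (σ ^ i) (φ a0)) ^ m)⁻¹ :=
          Finset.prod_congr rfl fun i _ => by rw [had, map_mul, map_inv₀, map_inv₀, hpow, map_pow, map_div₀]
      _ = L⁻¹ ^ r * ((L⁻¹ / φ L⁻¹) ^ m)⁻¹ := by
          rw [Finset.prod_mul_distrib, Finset.prod_const, Finset.card_range, Finset.prod_inv_distrib, Finset.prod_pow,
            Finset.prod_div_distrib, ha0, e1]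
      _ = L⁻¹ := by
          rw [map_inv₀, hφL, inv_inv, div_eq_mul_inv, ← pow_two, ← pow_mul, hm, pow_succ', mul_assoc,
            mul_inv_cancel₀ (pow_ne_zero _ (inv_ne_zero hL0)), mul_one]
  have han : a * φ a = 1 := by
    have e : a0 / φ a0 * φ (a0 / φ a0) = 1 := by
      rw [map_div₀, hφd, (powConj_isConj hF).invol, div_mul_div_comm, mul_comm, div_self]
      exact mul_ne_zero hφa0 ha00
    rw [had, map_mul, map_inv₀, map_inv₀, map_pow, mul_mul_mul_comm, ← mul_inv, ← mul_inv, ← mul_pow, e,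
      one_pow, hLφ, inv_one, one_mul]
  have ha00' : a ≠ 0 := fun h0 => by rw [h0, zero_mul] at han; exact zero_ne_one han
  let A : N1 hF := ⟨Units.mk0 a ha00', (mem_N1 hF _).2 han⟩
  have htn : ∀ k : ℕ, tnorm (guAut σ) (scU hF A * g) k =
      scU hF (∏ i ∈ Finset.range k, tw (σ ^ i) A) * tnorm (guAut σ) g k := by
    intro k
    induction k with
    | zero => simp [tnorm]
    | succ k ih =>
      have e : ∀ i, tw σ (tw (σ ^ i) A) = tw (σ ^ (i + 1)) A := fun i =>
        Subtype.ext (Units.ext (by rw [pow_succ']; rfl))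
      have e0 : tw (σ ^ 0) A = A := Subtype.ext (Units.ext rfl)
      let twh : N1 hF →* N1 hF := MonoidHom.mk' (tw σ) fun u v => Subtype.ext (map_mul _ _ _)
      rw [tnorm, ih, map_mul, htw, tnorm, Finset.prod_range_succ', map_mul (scU hF), e0]
      rw [show tw σ (∏ i ∈ Finset.range k, tw (σ ^ i) A) = ∏ i ∈ Finset.range k, tw (σ ^ (i + 1)) A from
        (map_prod twh _ _).trans (Finset.prod_congr rfl fun i _ => e i)]
      rw [← mul_assoc, mul_assoc (scU hF A) g, ← scU_comm, ← mul_assoc, mul_assoc (scU hF A * _) g]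
      congr 1
      exact scU_comm hF _ _
  have hN : tnorm (guAut σ) (scU hF A * g) r = 1 := by
    rw [htn, hl, ← map_mul, show (∏ i ∈ Finset.range r, tw (σ ^ i) A) * l = 1 from ?_, map_one]
    refine Subtype.ext (Units.ext ?_)
    rw [Subgroup.coe_mul, Units.val_mul, SubmonoidClass.coe_finsetProd, Units.coe_prod]
    show (∏ i ∈ Finset.range r, (σ ^ i) a) * L = _
    rw [ha, inv_mul_cancel₀ hL0]; rfl
  obtain ⟨h, hh⟩ := hilbert90_gu hF hord ⟨m, hm⟩ _ hN
  refine ⟨h, ?_⟩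
  rw [mul_assoc (conjU h), ← map_inv, fieldU_mul_conjU, ← mul_assoc, ← map_mul, map_inv (guAut σ),
    show h * (guAut σ h)⁻¹ = scU hF A * g from mul_inv_eq_iff_eq_mul.2 hh.symm, map_mul, conjU_scU, one_mul]

theorem coset_conj {p f : ℕ} [Fact p.Prime] (hq : q = p ^ f) (hf : 1 ≤ f) (hF : Fintype.card F = q ^ 2)
    (hn : 3 ≤ n) (hs : ¬ (n = 3 ∧ q = 2)) (x δ : MulAut Qn) (hx : Cfsg.IsFieldAutClassPSU x) {r : ℕ}
    (hr : r.Prime) (hxr : orderOf x = r) (hδ : δ ∈ Cfsg.inndiagPSU n F q) :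
    orderOf (δ * x) = r ↔ Cfsg.IsConjUnder (Cfsg.inndiagPSU n F q) x (δ * x) := by
  have := charP_of_card hq hF
  have hs' := three_le_q hq hf hs
  constructor
  · intro h
    have hx1 : x ^ r = 1 := hxr ▸ pow_orderOf_eq_one x
    have hd1 : (δ * x) ^ r = 1 := h ▸ pow_orderOf_eq_one (δ * x)
    obtain ⟨α, φ, σ, hσ, hodd, hstd, hαφ⟩ := hx
    obtain rfl := hαφ
    have hφ := eq_fieldU hstd
    obtain ⟨g, hg⟩ : α * δ * α⁻¹ ∈ (conjU : GUn →* MulAut Qn).range :=
      inndiag_eq (F := F) (n := n) (q := q) ▸ inndiag_normal p hF hn hs' hδ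
    obtain ⟨k, hk⟩ := field_case hF hn (g := g) (σ := σ) hσ hodd hr
      (by rw [← hφ, conj_pow, hx1, mul_one, mul_inv_cancel])
      (by
        rw [hg, ← hφ, show α * δ * α⁻¹ * (α * x * α⁻¹) = α * (δ * x) * α⁻¹ by group, conj_pow, hd1, mul_one,
          mul_inv_cancel])
    refine ⟨α⁻¹ * conjU k * α⁻¹⁻¹,
      inndiag_normal p hF hn hs' (inndiag_eq (F := F) (n := n) (q := q) ▸ ⟨k, rfl⟩), ?_⟩
    rw [hg, ← hφ] at hk
    calc δ * x = α⁻¹ * (α * δ * α⁻¹ * (α * x * α⁻¹)) * α := by group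
      _ = _ := by rw [hk]; group
  · rintro ⟨h, -, e⟩
    rw [e, ← MulAut.conj_apply, MulEquiv.orderOf_eq (MulAut.conj h) x, hxr]

end Cfsg.Lib.Unitary
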