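import Cfsg.Agent.Known.Unit.FieldData

/-!
Unitary matrices fixed up to scalars by a field automorphism of odd order.
-/

set_option autoImplicit false
set_option linter.unusedSectionVars false

namespace Cfsg.Lib.Unitary

open Matrix Cfsg.Lib.Classical

universe u

theorem cast_cardGUFormula (q n : ℕ) (hq : 1 ≤ q) : (cardGUFormula q n : ℤ) =
    (q : ℤ) ^ (n * (n - 1) / 2) * ∏ i : Fin n, ((q : ℤ) ^ ((i : ℕ) + 1) - (-1) ^ ((i : ℕ) + 1)) := by
  rw [cardGUFormula, Nat.cast_mul, Nat.cast_pow, Nat.cast_prod,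
    Fin.prod_univ_eq_prod_range (fun i => ((q : ℤ) ^ (i + 1) - (-1) ^ (i + 1))) n]
  congr 1
  refine Finset.prod_congr rfl fun i _ => ?_
  split_ifs with h
  · rw [(h.add_one).neg_one_pow]; push_cast; ring
  · rw [(Nat.not_even_iff_odd.1 h).add_one.neg_one_pow, Nat.cast_sub (Nat.one_le_pow _ _ hq)]; push_cast; ring

theorem fixed_cosets_card {K : Type*} [Field K] [Fintype K] {q₀ q r n : ℕ} (hr : r.Prime) (hr2 : r ≠ 2)
    (hn : 1 ≤ n) (hq : q = q₀ ^ r) (hK : Fintype.card K = q ^ 2) (σ : K ≃+* K) (hσ : orderOf σ = r) :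
    (Nat.card {g : ↥(Cfsg.GU n K q) // ∃ c : K, c ≠ 0 ∧
      ((g : GL (Fin n) K) : Matrix (Fin n) (Fin n) K).map σ = c • ((g : GL (Fin n) K) : Matrix (Fin n) (Fin n) K)} :
      ℤ) = ((q + 1) / (q₀ + 1) : ℕ) * ((q₀ : ℤ) ^ (n * (n - 1) / 2) *
        ∏ i : Fin n, ((q₀ : ℤ) ^ ((i : ℕ) + 1) - (-1) ^ ((i : ℕ) + 1))) := by
  classical
  have hro : Odd r := hr.odd_of_ne_two hr2
  have : Finite (K ≃+* K) := Finite.of_injective (fun e => (e : K → K)) DFunLike.coe_injective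
  let S : Subgroup (K ≃+* K) := Subgroup.zpowers σ
  have : Fintype S := Fintype.ofFinite S
  let L := FixedPoints.subfield S K
  have hmem : ∀ x, x ∈ L ↔ σ x = x := by
    refine fun x => ⟨fun h => h ⟨σ, Subgroup.mem_zpowers σ⟩, fun h k => ?_⟩
    obtain ⟨i, hi⟩ := Subgroup.mem_zpowers_iff.1 k.2
    show (k : K ≃+* K) x = x
    rw [← hi]
    have hfix : σ ∈ MulAction.stabilizer (K ≃+* K) x := h
    exact Subgroup.zpow_mem _ hfix i
  have hK0 : Fintype.card L = q₀ ^ 2 := by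
    refine Nat.pow_left_injective hr.ne_zero ?_
    show Fintype.card L ^ r = (q₀ ^ 2) ^ r
    have h1 : Fintype.card S = r := by rw [← Nat.card_eq_fintype_card, Nat.card_zpowers, hσ]
    rw [← pow_mul, mul_comm, pow_mul, ← hq, ← hK, Module.card_eq_pow_finrank (K := L) (V := K),
      FixedPoints.finrank_eq_card S K, h1]
  have hq0 : 1 ≤ q₀ := by
    rcases Nat.eq_zero_or_pos q₀ with h | h
    · rw [h, zero_pow two_ne_zero] at hK0
      exact absurd hK0 Fintype.card_ne_zero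
    · exact h
  set ι : L →+* K := L.subtype with hιd
  obtain ⟨k, hk⟩ := hro
  have hconj : ∀ y : L, ι (powConj hK0 y) = powConj hK (ι y) := fun y => by
    rw [powConj_apply, powConj_apply, ← map_pow, hq, hk, pow_pow_odd hK0]
  have hι : ∀ x, σ x = x ↔ x ∈ Set.range ι := fun x =>
    ⟨fun h => ⟨⟨x, (hmem x).2 h⟩, rfl⟩, by rintro ⟨y, rfl⟩; exact (hmem _).1 y.2⟩
  let m : N1 hK × Cfsg.GU n L q₀ →* Cfsg.GU n K q :=
    MonoidHom.noncommCoprod (scU hK) (embU hK0 hK ι hconj) fun u b => scU_comm hK u _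
  have hrange : ∀ g : Cfsg.GU n K q, g ∈ m.range ↔ ∃ c : K, c ≠ 0 ∧
      ((g : GL (Fin n) K) : Matrix (Fin n) (Fin n) K).map σ = c • ((g : GL (Fin n) K) : Matrix (Fin n) (Fin n) K) := by
    intro g
    constructor
    · rintro ⟨⟨u, b⟩, rfl⟩
      have hu0 : ((u : Kˣ) : K) ≠ 0 := (u : Kˣ).ne_zero
      refine ⟨σ ((u : Kˣ) : K) / ((u : Kˣ) : K), div_ne_zero ((map_ne_zero σ).2 hu0) hu0, ?_⟩
      rw [show m (u, b) = scU hK u * embU hK0 hK ι hconj b from rfl, coe_gu_mul, coe_scU, coe_embU, Matrix.smul_mul, Matrix.one_mul, smul_smul,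
        div_mul_cancel₀ _ hu0]
      ext a c
      simp only [Matrix.map_apply, Matrix.smul_apply, smul_eq_mul, map_mul]
      rw [(hι _).2 ⟨_, rfl⟩]
    · intro h
      obtain ⟨c, b, rfl⟩ := desc hK0 hK ι hconj hn hι g h
      exact ⟨(c, b), rfl⟩
  have hcard : Nat.card {g : ↥(Cfsg.GU n K q) // ∃ c : K, c ≠ 0 ∧
      ((g : GL (Fin n) K) : Matrix (Fin n) (Fin n) K).map σ = c • ((g : GL (Fin n) K) : Matrix (Fin n) (Fin n) K)} =
      Nat.card m.range := Nat.card_congr (Equiv.subtypeEquivRight fun g => (hrange g).symm)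
  have himg : ∀ u : N1 hK0, Units.map ι.toMonoidHom (u : Lˣ) ∈ N1 hK := fun u => by
    rw [mem_N1]
    show ι ((u : Lˣ) : L) * powConj hK (ι ((u : Lˣ) : L)) = 1
    rw [← hconj, ← map_mul, (mem_N1 hK0 _).1 u.2, map_one]
  let j : N1 hK0 →* N1 hK := ((Units.map ι.toMonoidHom).comp (N1 hK0).subtype).codRestrict (N1 hK) himg
  have hsc : ∀ u : N1 hK0, embU hK0 hK ι hconj (scU hK0 u : Cfsg.GU n L q₀) = scU hK (j u) := fun u => gu_ext (by
    rw [coe_embU, coe_scU, coe_scU]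
    ext a c
    by_cases h : a = c <;> simp [h, j])
  have hker : Nat.card m.ker = q₀ + 1 := by
    rw [← card_N1 hK0]
    refine (Nat.card_congr (Equiv.ofBijective (fun u : N1 hK0 => (⟨(j u⁻¹, scU hK0 u), ?_⟩ : m.ker)) ⟨?_, ?_⟩)).symm
    · rw [MonoidHom.mem_ker, show m (j u⁻¹, scU hK0 u) = scU hK (j u⁻¹) * embU hK0 hK ι hconj (scU hK0 u) from rfl, hsc, ← map_mul, ← map_mul, inv_mul_cancel, map_one,
        map_one]
    · intro u v h
      exact scU_injective hK0 hn (congrArg (fun z : m.ker => z.1.2) h)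
    · rintro ⟨⟨c, b⟩, hcb⟩
      have hcb' : scU hK c * embU hK0 hK ι hconj b = 1 := hcb
      let o : Fin n := ⟨0, hn⟩
      have hent : ∀ a l, ι (((b : GL (Fin n) L) : Matrix (Fin n) (Fin n) L) a l) =
          (((c⁻¹ : N1 hK) : Kˣ) : K) * (1 : Matrix (Fin n) (Fin n) K) a l := fun a l => by
        have h1 : embU hK0 hK ι hconj b = scU hK c⁻¹ := by rw [map_inv]; exact eq_inv_of_mul_eq_one_right hcb'
        have h2 := congrFun (congrFun (congrArg (fun z : Cfsg.GU n K q =>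
          ((z : GL (Fin n) K) : Matrix (Fin n) (Fin n) K)) h1) a) l
        simpa only [coe_embU, coe_scU, Matrix.map_apply, Matrix.smul_apply, smul_eq_mul] using h2
      set y := ((b : GL (Fin n) L) : Matrix (Fin n) (Fin n) L) o o with hy
      have hyy : ι y = (((c⁻¹ : N1 hK) : Kˣ) : K) := by rw [hy, hent, Matrix.one_apply_eq, mul_one]
      have hy0 : y ≠ 0 := fun h0 => ((c⁻¹ : N1 hK) : Kˣ).ne_zero (by rw [← hyy, h0, map_zero])
      have hyN : y * powConj hK0 y = 1 := ι.injective (by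
        rw [map_mul, hconj, hyy, map_one]; exact (mem_N1 hK _).1 (c⁻¹ : N1 hK).2)
      let u : N1 hK0 := ⟨Units.mk0 y hy0, (mem_N1 hK0 _).2 hyN⟩
      have hju : j u = c⁻¹ := Subtype.ext (Units.ext hyy)
      refine ⟨u, Subtype.ext (Prod.ext ?_ ?_)⟩
      · show j u⁻¹ = c
        rw [map_inv, hju, inv_inv]
      · show scU hK0 u = b
        refine gu_ext ?_
        rw [coe_scU]
        refine Matrix.ext fun a l => ι.injective ?_
        rw [hent, Matrix.smul_apply, smul_eq_mul, map_mul, Matrix.one_apply, Matrix.one_apply]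
        show ι y * _ = _
        rw [hyy]
        split_ifs <;> simp
  have hdvd : q₀ + 1 ∣ q + 1 := by
    have := Odd.nat_add_dvd_pow_add_pow q₀ 1 (⟨k, hk⟩ : Odd r)
    rwa [one_pow, ← hq] at this
  have h1 := m.ker.card_mul_index
  rw [Subgroup.index_ker, hker, Nat.card_prod, card_N1, card_GU hK0, ← Nat.div_mul_cancel hdvd,
    mul_comm ((q + 1) / (q₀ + 1)), mul_assoc] at h1
  rw [hcard, Nat.eq_of_mul_eq_mul_left (Nat.succ_pos _) h1, Nat.cast_mul, cast_cardGUFormula q₀ n hq0]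

end Cfsg.Lib.Unitary
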