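import Cfsg.Agent.Known.Unit.Trans
import Mathlib.RingTheory.IntegralDomain

/-!
Every automorphism of `PSU` is induced by a semilinear isometry.
-/

set_option autoImplicit false
set_option linter.unusedSectionVars false

namespace Cfsg.Lib.Unitary

open Cfsg.Lib.Classical

universe u v

variable {F : Type u} [Field F] [Fintype F] {V : Type v} [AddCommGroup V] [Module F V] [FiniteDimensional F V]
  {H : HermSpace F V}

theorem semilinear_of_lines {M : Type*} [AddCommGroup M] [Module F M] [Module.Finite F M]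
    (h2 : 2 ≤ Module.finrank F M) (A : M →+ M) (hA : Function.Injective A)
    (hline : ∀ (μ : F) (w : M), ∃ ν : F, A (μ • w) = ν • A w) :
    ∃ τ : F ≃+* F, ∀ (μ : F) (w : M), A (μ • w) = τ μ • A w := by
  classical
  have hne : ∀ w : M, w ≠ 0 → A w ≠ 0 := fun w hw h => hw (hA (h.trans (map_zero A).symm))
  choose s hs using hline
  have hsurj : ∀ w : M, w ≠ 0 → ∀ ν : F, ∃ μ : F, ν • A w = A (μ • w) := by
    intro w hw ν
    have hinj : Function.Injective fun μ => s μ w := fun a b e => by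
      refine smul_left_injective F hw (hA ?_)
      rw [hs, hs]; exact congrArg (· • A w) e
    obtain ⟨μ, hμ⟩ := (Finite.injective_iff_surjective.1 hinj) ν
    exact ⟨μ, by rw [hs, ← hμ]⟩
  have hind : ∀ w u : M, w ≠ 0 → u ∉ Submodule.span F {w} → A u ∉ Submodule.span F {A w} := by
    intro w u hw hu h
    obtain ⟨ν, hν⟩ := Submodule.mem_span_singleton.1 h
    obtain ⟨μ, hμ⟩ := hsurj w hw ν
    exact hu (Submodule.mem_span_singleton.2 ⟨μ, hA (hμ.symm.trans hν)⟩)
  have heq : ∀ (μ : F) (w u : M), w ≠ 0 → u ∉ Submodule.span F {w} → s μ w = s μ u := by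
    intro μ w u hw hu
    have h1 : A (μ • (w + u)) = s μ w • A w + s μ u • A u := by rw [smul_add, map_add, hs, hs]
    rw [hs, map_add, smul_add] at h1
    have hind' := hind w u hw hu
    have h2 : (s μ (w + u) - s μ u) • A u = (s μ w - s μ (w + u)) • A w := by
      rw [sub_smul, sub_smul]
      linear_combination (norm := module) h1
    have e1 : s μ (w + u) = s μ u := by
      by_contra hne'
      refine hind' (Submodule.mem_span_singleton.2 ⟨(s μ (w + u) - s μ u)⁻¹ * (s μ w - s μ (w + u)), ?_⟩)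
      rw [mul_smul, ← h2, smul_smul, inv_mul_cancel₀ (sub_ne_zero.2 hne'), one_smul]
    rw [e1, sub_self, zero_smul] at h2
    rw [sub_eq_zero.1 ((smul_eq_zero.1 h2.symm).resolve_right (hne w hw))]
  have hout : ∀ w : M, ∃ u : M, u ∉ Submodule.span F {w} := by
    intro w
    by_contra h
    push Not at h
    have : Module.finrank F (Submodule.span F ({w} : Set M)) ≤ 1 := by
      have := finrank_span_finset_le_card (R := F) ({w} : Finset M)
      rwa [Finset.coe_singleton, Finset.card_singleton] at this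
    rw [show Submodule.span F ({w} : Set M) = ⊤ from eq_top_iff.2 fun u _ => h u, finrank_top] at this
    omega
  obtain ⟨w0, hw0⟩ := hout 0
  have hw00 : w0 ≠ 0 := fun h => hw0 (by rw [h]; exact zero_mem _)
  have hall : ∀ (μ : F) (w : M), A (μ • w) = s μ w0 • A w := by
    intro μ w
    rcases eq_or_ne w 0 with rfl | hw
    · rw [smul_zero, map_zero, smul_zero]
    rw [hs]
    by_cases hm : w ∈ Submodule.span F {w0}
    · obtain ⟨u, hu⟩ := hout w0
      have hu' : u ∉ Submodule.span F {w} := fun h => hu (Submodule.span_le.2 (Set.singleton_subset_iff.2 hm) h)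
      rw [heq μ w u hw hu', heq μ w0 u hw00 hu]
    · rw [heq μ w0 w hw00 hm]
  have hA0 := hne w0 hw00
  let τ : F →+* F :=
    { toFun := fun μ => s μ w0
      map_one' := smul_left_injective F hA0 (show s 1 w0 • A w0 = (1 : F) • A w0 by rw [← hall, one_smul, one_smul])
      map_mul' := fun a b => smul_left_injective F hA0 (show s (a * b) w0 • A w0 = (s a w0 * s b w0) • A w0 by
        rw [← hall, mul_smul, hall, hall, smul_smul])
      map_zero' := smul_left_injective F hA0 (show s 0 w0 • A w0 = (0 : F) • A w0 by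
        rw [← hall, zero_smul, map_zero, zero_smul])
      map_add' := fun a b => smul_left_injective F hA0 (show s (a + b) w0 • A w0 = (s a w0 + s b w0) • A w0 by
        rw [← hall, add_smul, map_add, hall, hall, ← add_smul]) }
  exact ⟨RingEquiv.ofBijective τ ⟨τ.injective, Finite.surjective_of_injective τ.injective⟩, hall⟩

theorem exists_not_real (H : HermSpace F V) : ∃ θ : F, H.σ θ ≠ θ := H.conj.ne_id

theorem real_smul_eq_zero (H : HermSpace F V) {X : F} (h : ∀ μ : F, H.σ (μ * X) = μ * X) : X = 0 := by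
  obtain ⟨θ, hθ⟩ := exists_not_real H
  have h1 := h 1
  rw [one_mul] at h1
  have h2 := h θ
  rw [map_mul, h1] at h2
  by_contra h0
  exact hθ (mul_right_cancel₀ h0 h2)

theorem comm_conj (H : HermSpace F V) (τ : F ≃+* F) (x : F) : τ (H.σ x) = H.σ (τ x) := by
  obtain ⟨g, hg⟩ := IsCyclic.exists_generator (α := Fˣ)
  obtain ⟨a, ha⟩ := Subgroup.mem_zpowers_iff.1 (hg (Units.map τ.toRingHom.toMonoidHom g))
  obtain ⟨b, hb⟩ := Subgroup.mem_zpowers_iff.1 (hg (Units.map H.σ.toMonoidHom g))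
  rcases eq_or_ne x 0 with rfl | hx
  · rw [map_zero, map_zero, map_zero]
  obtain ⟨k, hk⟩ := Subgroup.mem_zpowers_iff.1 (hg (Units.mk0 x hx))
  have h : Units.map τ.toRingHom.toMonoidHom (Units.map H.σ.toMonoidHom (Units.mk0 x hx)) =
      Units.map H.σ.toMonoidHom (Units.map τ.toRingHom.toMonoidHom (Units.mk0 x hx)) := by
    rw [← hk]
    simp only [map_zpow]
    rw [← hb, ← ha, map_zpow, map_zpow, ← ha, ← hb]
    simp only [← _root_.zpow_mul]
    congr 1
    ring
  exact congrArg Units.val h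

variable (p : ℕ) [Fact p.Prime] [CharP F p] (hd : 3 ≤ Module.finrank F V) (P : Frame H) {α : MulAut (Pu H)}
  (hRe : (R H P.e).map α.toMonoidHom = R H P.e) (hRf : (R H P.f).map α.toMonoidHom = R H P.f)

theorem map_conj_map (S : Subgroup (Pu H)) (x : Pu H) :
    (S.map (MulAut.conj x).toMonoidHom).map α.toMonoidHom =
      (S.map α.toMonoidHom).map (MulAut.conj (α x)).toMonoidHom := by
  rw [Subgroup.map_map, Subgroup.map_map]
  congr 1
  refine MonoidHom.ext fun z => ?_
  show α (x * z * x⁻¹) = α x * α z * (α x)⁻¹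
  rw [map_mul, map_mul, map_inv]

include hd hRe in
theorem isTrans_map {f : V → V} (hf : IsPointMap α f) {x : Pu H} (hx : P.IsTrans p x) : P.IsTrans p (α x) := by
  obtain ⟨⟨k, hk⟩, h1, h2⟩ := hx
  obtain ⟨a, ha⟩ := Submodule.mem_span_singleton.1 (eq_of_R H hd (hf.ne _ P.e_ne P.he) (hf.iso _ P.e_ne P.he) P.he
    (by rw [← hf.map _ P.e_ne P.he, hRe]))
  have ha0 : a ≠ 0 := fun h => hf.ne _ P.e_ne P.he (by rw [← ha, h, zero_smul])
  refine ⟨⟨k, by rw [← map_pow, hk, map_one]⟩, ?_, ?_⟩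
  · conv_lhs => rw [← hRe, ← map_conj_map, h1, hRe]
  · intro y' z' hy0 hyy hye hz0 hzz e
    obtain ⟨y, hy, hy2, c, hc, rfl⟩ := hf.surj p hd hy0 hyy
    obtain ⟨g, rfl⟩ := pr_surjective H x
    have hye' : H.h y P.e = 0 := by
      refine (hf.perp hd hy hy2 P.e_ne P.he).1 ?_
      rw [← ha, H.smul_right]
      rw [H.smul_left, mul_eq_zero] at hye
      rw [hye.resolve_left hc, mul_zero]
    have hgy := h2 y (g.1.1 y) hy hy2 hye' (H.isom_ne_zero g.1 hy) (iso_map H g hy2) (R_map_conj H g hy2)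
    have hcol := hf.col p hd P.e_ne P.he hy hy2 (H.isom_ne_zero g.1 hy) (iso_map H g hy2) hgy
    have hz' : z' ∈ Submodule.span F {f (g.1.1 y)} := by
      refine eq_of_R H hd hz0 hzz (hf.iso _ (H.isom_ne_zero g.1 hy) (iso_map H g hy2)) (le_of_eq ?_)
      rw [← e, R_smul H (hf.iso y hy hy2) hc, ← hf.map y hy hy2, ← map_conj_map, R_map_conj H g hy2,
        hf.map _ (H.isom_ne_zero g.1 hy) (iso_map H g hy2)]
    obtain ⟨d, rfl⟩ := Submodule.mem_span_singleton.1 hz'
    refine Submodule.smul_mem _ d (Submodule.span_le.2 ?_ hcol)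
    rintro v (rfl | rfl)
    · rw [← ha]; exact Submodule.smul_mem _ _ (Submodule.subset_span (by simp))
    · have : c • f y ∈ Submodule.span F ({P.e, c • f y} : Set V) := Submodule.subset_span (by simp)
      have := Submodule.smul_mem _ c⁻¹ this
      rwa [smul_smul, inv_mul_cancel₀ hc, one_smul] at this

/-- The action of the automorphism on the parameters of the translations. -/
structure Param (α : MulAut (Pu H)) (A : P.W →+ P.W) (B : P.W → F → F) : Prop where
  valid : ∀ (w : P.W) (a : F), P.Valid w a → P.Valid (A w : V) (B w a)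
  img : ∀ (w : P.W) (a : F) (h : P.Valid w a) (h' : P.Valid (A w : V) (B w a)),
    α (pr H (P.sg h)) = pr H (P.sg h')
  inj : Function.Injective A
  mul : ∀ (w u : P.W) (a b : F), P.Valid w a → P.Valid u b →
    B (w + u) (a + b - H.h (u : V) w) = B w a + B u b - H.h (A u : V) (A w)

include p hd hRe in
theorem exists_param {f : V → V} (hf : IsPointMap α f) : ∃ (A : P.W →+ P.W) (B : P.W → F → F), Param P α A B := by
  classical
  have himg : ∀ (w : P.W) (a : F), ∃ (w' : P.W) (a' : F), ∀ h : P.Valid w a,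
      ∃ h' : P.Valid w' a', α (pr H (P.sg h)) = pr H (P.sg h') := by
    intro w a
    by_cases h : P.Valid w a
    · obtain ⟨w', a', h', e⟩ := P.exists_of_isTrans p hd (isTrans_map p hd P hRe hf (P.isTrans_sg p hd h))
      exact ⟨⟨w', h'.1⟩, a', fun _ => ⟨h', e⟩⟩
    · exact ⟨0, 0, fun h' => absurd h' h⟩
  choose A' B hAB using himg
  choose a0 ha0 using fun w : P.W => P.exists_valid w.2
  have huniq : ∀ (w : P.W) (a : F) (h : P.Valid w a) (w' : V) (a' : F) (h' : P.Valid w' a'),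
      α (pr H (P.sg h)) = pr H (P.sg h') → (A' w a : V) = w' ∧ B w a = a' := by
    intro w a h w' a' h' e
    obtain ⟨h'', e''⟩ := hAB w a h
    exact P.pr_sg_inj (by omega) (e''.symm.trans e)
  have hcen : ∀ (c : F), P.Valid (0 : P.W) c → (A' 0 c : V) = 0 := by
    intro c h
    obtain ⟨h', e'⟩ := hAB 0 c h
    have hc : c + H.σ c = 0 := by
      have := h.2
      rwa [ZeroMemClass.coe_zero, H.zero_left, neg_zero] at this
    have hm : pr H (P.sg h) ∈ R H P.e := by
      have hv : P.Valid 0 c := ⟨zero_mem _, by rw [H.zero_left, neg_zero]; exact hc⟩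
      rw [P.sg_congr h hv rfl rfl, P.sg_eq_tr hv hc]
      exact tr_mem_R H P.he hc
    have hm' : α (pr H (P.sg h)) ∈ R H P.e := hRe ▸ ⟨_, hm, rfl⟩
    obtain ⟨d, hd', ed⟩ := (mem_R H P.he).1 hm'
    have hv0 : P.Valid 0 d := ⟨zero_mem _, by rw [H.zero_left, neg_zero]; exact hd'⟩
    exact (huniq 0 c h 0 d hv0 (by rw [P.sg_eq_tr hv0 hd', ed])).1
  have hmul : ∀ (w u : P.W) (a b : F) (h : P.Valid w a) (h' : P.Valid u b),
      A' (w + u) (a + b - H.h (u : V) w) = A' w a + A' u b ∧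
      B (w + u) (a + b - H.h (u : V) w) = B w a + B u b - H.h (A' u b : V) (A' w a) := by
    intro w u a b h h'
    obtain ⟨h1, e1⟩ := hAB w a h
    obtain ⟨h2, e2⟩ := hAB u b h'
    have := huniq (w + u) _ (P.valid_mul h h') _ _ (P.valid_mul h1 h2) (by
      rw [← P.sg_mul h1 h2, map_mul, ← e1, ← e2, ← map_mul, ← map_mul, P.sg_mul h h'])
    exact ⟨Subtype.ext this.1, this.2⟩
  have hindep : ∀ (w : P.W) (a : F), P.Valid w a → A' w a = A' w (a0 w) := by
    intro w a h
    have hv : P.Valid (0 : P.W) (a - a0 w) := ⟨zero_mem _, by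
      rw [map_sub, ZeroMemClass.coe_zero, H.zero_left, neg_zero]
      linear_combination h.2 - (ha0 w).2⟩
    have e := (hmul w 0 (a0 w) (a - a0 w) (ha0 w) hv).1
    rw [add_zero, ZeroMemClass.coe_zero, H.zero_left, sub_zero, add_sub_cancel,
      show A' 0 (a - a0 w) = 0 from Subtype.ext (hcen _ hv), add_zero] at e
    exact e
  have hadd : ∀ w u : P.W, A' (w + u) (a0 (w + u)) = A' w (a0 w) + A' u (a0 u) := fun w u => by
    rw [← hindep (w + u) _ (P.valid_mul (ha0 w) (ha0 u))]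
    exact (hmul w u _ _ (ha0 w) (ha0 u)).1
  refine ⟨AddMonoidHom.mk' (fun w => A' w (a0 w)) hadd, B, fun w a h => ?_, fun w a h h' => ?_, ?_, ?_⟩
  · obtain ⟨h1, -⟩ := hAB w a h
    show P.Valid (A' w (a0 w) : V) (B w a)
    rwa [← hindep w a h]
  · obtain ⟨h1, e1⟩ := hAB w a h
    rw [e1]
    exact congrArg (pr H) (P.sg_congr _ _ (by rw [hindep w a h]; rfl) rfl)
  · refine (injective_iff_map_eq_zero _).2 fun w hw => ?_
    have hw : A' w (a0 w) = 0 := hw
    obtain ⟨h1, e1⟩ := hAB w (a0 w) (ha0 w)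
    have hc : B w (a0 w) + H.σ (B w (a0 w)) = 0 := by
      have := h1.2
      rwa [hw, ZeroMemClass.coe_zero, H.zero_left, neg_zero] at this
    have hm : α (pr H (P.sg (ha0 w))) ∈ R H P.e := by
      have hv : P.Valid 0 (B w (a0 w)) := ⟨zero_mem _, by rw [H.zero_left, neg_zero]; exact hc⟩
      rw [e1, P.sg_congr h1 hv (by rw [hw]; rfl) rfl, P.sg_eq_tr hv hc]
      exact tr_mem_R H P.he hc
    obtain ⟨z, hz, ez⟩ : α (pr H (P.sg (ha0 w))) ∈ (R H P.e).map α.toMonoidHom := hRe.symm ▸ hm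
    obtain ⟨d, hd', rfl⟩ := (mem_R H P.he).1 hz
    have hv0 : P.Valid 0 d := ⟨zero_mem _, by rw [H.zero_left, neg_zero]; exact hd'⟩
    exact Subtype.ext (P.pr_sg_inj (by omega) (h' := hv0)
      (by rw [P.sg_eq_tr hv0 hd']; exact (α.injective ez).symm)).1
  · intro w u a b h h'
    show _ = _ - H.h (A' u (a0 u) : V) (A' w (a0 w))
    rw [← hindep w a h, ← hindep u b h']
    exact (hmul w u a b h h').2

variable {A : P.W →+ P.W} {B : P.W → F → F}

include hd hRf in
theorem pt_map {f : V → V} (hf : IsPointMap α f) (hP : Param P α A B) {w : P.W} {a : F} (h : P.Valid w a) :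
    f (P.pt w a) ∈ Submodule.span F {P.pt (A w : V) (B w a)} := by
  have h' := hP.valid w a h
  refine eq_of_R H hd (hf.ne _ (P.pt_ne h) (P.pt_iso h)) (hf.iso _ (P.pt_ne h) (P.pt_iso h)) (P.pt_iso h')
    (le_of_eq ?_)
  rw [← hf.map _ (P.pt_ne h) (P.pt_iso h), ← P.sg_f h, ← P.sg_f h', ← R_map_conj H _ P.hf,
    ← R_map_conj H _ P.hf, map_conj_map, hRf, hP.img w a h h']

include p hd hRf in
/-- The line through two image points. -/
theorem line_map {f : V → V} (hf : IsPointMap α f) (hP : Param P α A B) {w : P.W} {a : F} {μ : F}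
    (h : P.Valid w a) (h' : P.Valid (μ • w : P.W) (μ * a)) :
    ∃ ν : F, A (μ • w) = ν • A w ∧ B (μ • w) (μ * a) = ν * B w a := by
  have h0 : P.pt ((μ • w : P.W) : V) (μ * a) ∈ Submodule.span F {P.f, P.pt w a} :=
    Submodule.mem_span_pair.2 ⟨1 - μ, μ, by rw [Frame.pt, Frame.pt, Submodule.coe_smul]; module⟩
  have h1 := hf.col p hd P.f_ne P.hf (P.pt_ne h) (P.pt_iso h) (P.pt_ne h') (P.pt_iso h') h0
  obtain ⟨b, hb⟩ := Submodule.mem_span_singleton.1 (eq_of_R H hd (hf.ne _ P.f_ne P.hf) (hf.iso _ P.f_ne P.hf) P.hf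
    (by rw [← hf.map _ P.f_ne P.hf, hRf]))
  obtain ⟨c, hc⟩ := Submodule.mem_span_singleton.1 (pt_map hd P hRf hf hP h)
  obtain ⟨c', hc'⟩ := Submodule.mem_span_singleton.1 (pt_map hd P hRf hf hP h')
  have hc0 : c' ≠ 0 := fun h0 => hf.ne _ (P.pt_ne h') (P.pt_iso h') (by rw [← hc', h0, zero_smul])
  obtain ⟨x, y, hxy⟩ := Submodule.mem_span_pair.1 h1
  rw [← hb, ← hc, ← hc'] at hxy
  have hv := hP.valid w a h
  have hv' := hP.valid _ _ h'
  have e2 : (c'⁻¹ * (x * b)) • P.f + (c'⁻¹ * (y * c)) • P.pt (A w : V) (B w a) =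
      P.pt (A (μ • w) : V) (B (μ • w) (μ * a)) := by
    rw [mul_smul, mul_smul, mul_smul, mul_smul, ← smul_add, hxy, smul_smul, inv_mul_cancel₀ hc0, one_smul]
  generalize c'⁻¹ * (x * b) = x', c'⁻¹ * (y * c) = ν at e2
  have e3 : B (μ • w) (μ * a) = ν * B w a := by
    have := congrArg (fun z => H.h z P.f) e2
    simp only [Frame.pt, H.add_left, H.smul_left, P.hf, P.hef, (P.mem_W.1 (A w).2).2,
      (P.mem_W.1 (A (μ • w)).2).2, mul_zero, mul_one, zero_add, add_zero] at this
    exact this.symm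
  refine ⟨ν, Subtype.ext ?_, e3⟩
  have e4 : x' + ν = 1 := by
    have := congrArg (fun z => H.h z P.e) e2
    simp only [H.add_left, H.smul_left, P.hfe, P.pt_e hv, P.pt_e hv', mul_one] at this
    exact this
  rw [Frame.pt, Frame.pt, e3] at e2
  rw [Submodule.coe_smul]
  have : x' = 1 - ν := eq_sub_of_add_eq e4
  subst this
  linear_combination (norm := module) -e2

include p hd hRf in
theorem iso_B {f : V → V} (hf : IsPointMap α f) (hP : Param P α A B) {w : P.W} (hw : H.h (w : V) w = 0) :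
    B w 0 = 0 := by
  have h : P.Valid w 0 := ⟨w.2, by rw [map_zero, add_zero, hw, neg_zero]⟩
  have hperp : H.h (P.pt w 0) P.f = 0 := by
    rw [Frame.pt, H.add_left, H.add_left, H.smul_left, P.hf, (P.mem_W.1 w.2).2, zero_mul, add_zero, add_zero]
  have h1 := (hf.perp hd (P.pt_ne h) (P.pt_iso h) P.f_ne P.hf).2 hperp
  obtain ⟨c, hc⟩ := Submodule.mem_span_singleton.1 (pt_map hd P hRf hf hP h)
  obtain ⟨b, hb⟩ := Submodule.mem_span_singleton.1 (eq_of_R H hd (hf.ne _ P.f_ne P.hf) (hf.iso _ P.f_ne P.hf) P.hf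
    (by rw [← hf.map _ P.f_ne P.hf, hRf]))
  have hb0 : b ≠ 0 := fun h0 => hf.ne _ P.f_ne P.hf (by rw [← hb, h0, zero_smul])
  have hc0 : c ≠ 0 := fun h0 => hf.ne _ (P.pt_ne h) (P.pt_iso h) (by rw [← hc, h0, zero_smul])
  rw [← hb, ← hc, H.smul_left, H.smul_right, mul_eq_zero, or_iff_right hc0, mul_eq_zero,
    or_iff_right ((map_ne_zero H.σ).2 hb0), Frame.pt, H.add_left, H.add_left, H.smul_left, P.hf, P.hef,
    (P.mem_W.1 (A w).2).2, mul_one, zero_add, zero_add] at h1
  exact h1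

/-- The parameter over a non-real multiple. -/
theorem exists_scaled {w : P.W} {μ : F} (hμ : H.σ μ ≠ μ) :
    ∃ a : F, P.Valid w a ∧ P.Valid (μ • w : P.W) (μ * a) := by
  have hne : μ - H.σ μ ≠ 0 := sub_ne_zero.2 (Ne.symm hμ)
  have hne' : H.σ μ - μ ≠ 0 := sub_ne_zero.2 hμ
  refine ⟨H.σ μ * H.h (w : V) w * (1 - μ) / (μ - H.σ μ), ⟨w.2, ?_⟩, (μ • w : P.W).2, ?_⟩
  · rw [map_div₀, map_mul, map_mul, map_sub, map_sub, map_one, H.conj.invol, H.self_fixed]
    field_simp
    ring
  · rw [Submodule.coe_smul, H.smul_left, H.smul_right, map_mul, map_div₀, map_mul, map_mul, map_sub, map_sub,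
      map_one, H.conj.invol, H.self_fixed]
    field_simp
    ring

include p hd hRf in
theorem A_line {f : V → V} (hf : IsPointMap α f) (hP : Param P α A B) (μ : F) (w : P.W) :
    ∃ ν : F, A (μ • w) = ν • A w := by
  have key : ∀ μ : F, H.σ μ ≠ μ → ∃ ν : F, A (μ • w) = ν • A w := by
    intro μ hμ
    obtain ⟨a, h, h'⟩ := exists_scaled P (w := w) hμ
    obtain ⟨ν, hν, -⟩ := line_map p hd P hRf hf hP h h'
    exact ⟨ν, hν⟩
  by_cases hμ : H.σ μ = μ
  · obtain ⟨θ, hθ⟩ := exists_not_real H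
    obtain ⟨ν1, h1⟩ := key (μ + θ) (by rw [map_add, hμ]; exact fun h => hθ (add_left_cancel h))
    obtain ⟨ν2, h2⟩ := key θ hθ
    refine ⟨ν1 - ν2, ?_⟩
    rw [sub_smul, ← h1, ← h2, ← map_sub, ← sub_smul, add_sub_cancel_right]
  · exact key μ hμ

theorem exists_torus (h3 : Module.finrank F V = 3) {w0 : V} (hw0 : w0 ∈ P.W) (hw1 : H.h w0 w0 = 1) (t0 : Fˣ) :
    ∃ t : H.SIsom, t.1.1 P.e = (t0 : F) • P.e ∧ t.1.1 P.f = (H.σ t0)⁻¹ • P.f ∧
      t.1.1 w0 = (H.σ t0 / t0) • w0 := by
  classical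
  obtain ⟨hwe, hwf⟩ := P.mem_W.1 hw0
  have hσ0 : H.σ t0 ≠ 0 := (map_ne_zero H.σ).2 t0.ne_zero
  have hproj : ∀ x, P.proj x = H.h (P.proj x) w0 • w0 := by
    intro x
    have hfr : Module.finrank F P.W = 1 := by rw [P.finrank_W]; omega
    have hne : (⟨w0, hw0⟩ : P.W) ≠ 0 := fun h => by
      have : w0 = 0 := congrArg Subtype.val h
      rw [this, H.zero_left] at hw1
      exact zero_ne_one hw1
    obtain ⟨c, hc⟩ := (finrank_eq_one_iff_of_nonzero' (⟨w0, hw0⟩ : P.W) hne).1 hfr ⟨P.proj x, P.proj_mem x⟩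
    have hc' : c • w0 = P.proj x := congrArg Subtype.val hc
    rw [← hc', H.smul_left, hw1, mul_one]
  let T : V →ₗ[F] V :=
    ((t0 : F) • (H.lin P.f).smulRight P.e) + ((H.σ t0)⁻¹ • (H.lin P.e).smulRight P.f) +
      ((H.σ t0 / t0) • (H.lin w0).smulRight w0)
  have hT : ∀ x, T x = ((t0 : F) * H.h x P.f) • P.e + ((H.σ t0)⁻¹ * H.h x P.e) • P.f +
      (H.σ t0 / t0 * H.h x w0) • w0 := fun x => by
    simp only [T, LinearMap.add_apply, LinearMap.smul_apply, LinearMap.smulRight_apply, HermSpace.lin_apply,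
      smul_smul]
  have he' : T P.e = (t0 : F) • P.e := by
    rw [hT, P.hef, P.he, H.eq_zero_symm hwe, mul_one, mul_zero, mul_zero, zero_smul, zero_smul, add_zero, add_zero]
  have hf' : T P.f = (H.σ t0)⁻¹ • P.f := by
    rw [hT, P.hf, P.hfe, H.eq_zero_symm hwf, mul_zero, mul_zero, mul_one, zero_smul, zero_smul, zero_add, add_zero]
  have hw' : T w0 = (H.σ t0 / t0) • w0 := by
    rw [hT, hwf, hwe, hw1, mul_zero, mul_zero, mul_one, zero_smul, zero_smul, zero_add, zero_add]
  have hiso : ∀ x y, H.h (T x) (T y) = H.h x y := by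
    intro x y
    have hd1 : ∀ x, x = H.h x P.f • P.e + H.h x P.e • P.f + H.h x w0 • w0 := by
      intro x
      have h1 := P.decomp x
      rw [hproj] at h1
      have h2 : H.h (P.proj x) w0 = H.h x w0 := by
        rw [Frame.proj, H.sub_left, H.sub_left, H.smul_left, H.smul_left, H.eq_zero_symm hwe, H.eq_zero_symm hwf,
          mul_zero, mul_zero, sub_zero, sub_zero]
      rwa [h2] at h1
    rw [hT, hT]
    conv_rhs => rw [hd1 x, hd1 y]
    simp only [H.add_left, H.add_right, H.smul_left, H.smul_right, P.he, P.hf, P.hef, P.hfe, hwe, hwf, hw1,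
      H.eq_zero_symm hwe, H.eq_zero_symm hwf, map_mul, map_inv₀, map_div₀, H.conj.invol]
    field_simp
    ring
  have hinj : Function.Injective T := by
    rw [injective_iff_map_eq_zero]
    exact fun x hx => H.nondeg x fun y => by rw [← hiso, hx, H.zero_right]
  let te : V ≃ₗ[F] V := LinearEquiv.ofBijective T ⟨hinj, LinearMap.injective_iff_surjective.1 hinj⟩
  refine ⟨⟨⟨te, hiso⟩, (H.mem_SIsom).2 (Units.ext ?_)⟩, he', hf', hw'⟩
  rw [LinearEquiv.coe_det, Units.val_one]
  show LinearMap.det T = 1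
  have hli : LinearIndependent F ![P.e, P.f, w0] := by
    rw [Fintype.linearIndependent_iff]
    intro g hg i
    rw [Fin.sum_univ_three] at hg
    simp only [Matrix.cons_val_zero, Matrix.cons_val_one, Matrix.cons_val_two, Matrix.tail_cons,
      Matrix.head_cons] at hg
    have h1 := congrArg (fun z => H.h z P.f) hg
    have h2 := congrArg (fun z => H.h z P.e) hg
    have h3 := congrArg (fun z => H.h z w0) hg
    simp [H.add_left, H.smul_left, H.zero_left, P.he, P.hf, P.hef, P.hfe, hwe, hwf, hw1, H.eq_zero_symm hwe,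
      H.eq_zero_symm hwf] at h1 h2 h3
    fin_cases i <;> assumption
  let b := basisOfLinearIndependentOfCardEqFinrank hli (by rw [Fintype.card_fin, h3])
  have hb : ∀ i, b i = ![P.e, P.f, w0] i := fun i => by simp [b]
  rw [← LinearMap.det_toMatrix b, show LinearMap.toMatrix b b T =
    Matrix.diagonal ![(t0 : F), (H.σ t0)⁻¹, H.σ t0 / t0] from ?_, Matrix.det_diagonal, Fin.prod_univ_three]
  · simp
    field_simp
  · ext i j
    have hTb : T (b j) = ![(t0 : F), (H.σ t0)⁻¹, H.σ t0 / t0] j • b j := by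
      rw [hb]
      fin_cases j
      · exact he'
      · exact hf'
      · exact hw'
    rw [LinearMap.toMatrix_apply, hTb, map_smul, b.repr_self, Finsupp.smul_apply, Finsupp.single_apply,
      Matrix.diagonal_apply, smul_eq_mul]
    by_cases h : i = j
    · subst h; simp
    · simp [h, Ne.symm h]

include p hd hRe hRf in
theorem A_torus (h3 : Module.finrank F V = 3) (hq : 3 ≤ H.q) (hP : Param P α A B) :
    ∃ τ : F ≃+* F, ∀ (μ : F) (w : P.W), A (μ • w) = τ μ • A w := by
  classical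
  have hfr : Module.finrank F P.W = 1 := by rw [P.finrank_W]; omega
  have : Nontrivial P.W := Module.nontrivial_of_finrank_pos (R := F) (by omega)
  obtain ⟨w0, hw1⟩ := (H.restrict P.W P.nondeg_W).exists_norm_one
  change H.h (w0 : V) w0 = 1 at hw1
  have hw00 : w0 ≠ 0 := fun h => by
    rw [h, ZeroMemClass.coe_zero, H.zero_left] at hw1
    exact zero_ne_one hw1
  have hall : ∀ u : P.W, ∃ c : F, c • w0 = u := (finrank_eq_one_iff_of_nonzero' w0 hw00).1 hfr
  have hA0 : A w0 ≠ 0 := fun h => hw00 (hP.inj (h.trans (map_zero A).symm))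
  have hall' : ∀ u : P.W, ∃ c : F, c • A w0 = u := (finrank_eq_one_iff_of_nonzero' (A w0) hA0).1 hfr
  choose s hs using fun μ : F => hall' (A (μ • w0))
  have hconj : ∀ {w : P.W} {a : F} (h : P.Valid w a) (t : H.SIsom) (ae bf lam : F), ae ≠ 0 → bf ≠ 0 →
      t.1.1 P.e = ae • P.e → t.1.1 P.f = bf • P.f → t.1.1 w = lam • (w : V) →
      ∃ (a' : F) (h' : P.Valid ((bf⁻¹ * lam) • w : P.W) a'),
        pr H t * pr H (P.sg h) * (pr H t)⁻¹ = pr H (P.sg h') := by
    intro w a h t ae bf lam hae hbf hte htf htw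
    have hTr : P.IsTrans p (pr H t * pr H (P.sg h) * (pr H t)⁻¹) := by
      obtain ⟨⟨k, hk⟩, h1, h2⟩ := P.isTrans_sg p hd h
      have htR : (R H P.e).map (MulAut.conj (pr H t)).toMonoidHom = R H P.e := by
        rw [R_map_conj H t P.he, hte, R_smul H P.he hae]
      refine ⟨⟨k, by rw [conj_pow, hk, mul_one, mul_inv_cancel]⟩, ?_, ?_⟩
      · rw [← map_inv, ← map_mul, ← map_mul, R_map_conj H _ P.he]
        have e1 : (t⁻¹).1.1 P.e = ae⁻¹ • P.e := by
          have := congrArg ((t⁻¹).1.1) hte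
          rw [map_smul] at this
          change (t.1⁻¹).1 (t.1.1 P.e) = _ at this
          rw [H.inv_apply_self] at this
          conv_rhs => rw [this, smul_smul, inv_mul_cancel₀ hae, one_smul]
        show R H (t.1.1 ((P.sg h).1.1 ((t⁻¹).1.1 P.e))) = _
        rw [e1, map_smul, P.sg_e, map_smul, hte, smul_smul, inv_mul_cancel₀ hae, one_smul]
      · intro y z hy hyy hye hz hzz e
        rw [← map_inv, ← map_mul, ← map_mul, R_map_conj H _ hyy] at e
        obtain ⟨c, rfl⟩ := Submodule.mem_span_singleton.1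
          (eq_of_R H hd hz hzz (iso_map H _ hyy) e.ge)
        refine Submodule.smul_mem _ c ?_
        show t.1.1 ((P.sg h).1.1 ((t⁻¹).1.1 y)) ∈ _
        set y' := (t⁻¹).1.1 y
        have hty : t.1.1 y' = y := H.apply_inv_self t.1 y
        have hy'e : H.h y' P.e = 0 := by
          have := H.map_form t.1 y' P.e
          rw [hty, hte, H.smul_right, hye, mul_zero] at this
          exact this.symm
        rw [P.sg_apply, hy'e, zero_smul, add_zero, mul_zero, zero_sub, map_add, map_smul, hty, hte, smul_smul]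
        exact add_mem (Submodule.subset_span (by simp)) (Submodule.smul_mem _ _ (Submodule.subset_span (by simp)))
    obtain ⟨w', a', h', e⟩ := P.exists_of_isTrans p hd hTr
    have e0 : pr H (t * P.sg h) = pr H (P.sg h' * t) := by
      rw [map_mul, map_mul, ← e, inv_mul_cancel_right]
    obtain ⟨z, hz, ez⟩ := (pr_eq_iff H).1 e0
    obtain ⟨c, -, hzc⟩ := center_scalar H (by omega) hz
    have e1 := congrArg (fun g : H.SIsom => g.1.1 P.e) ez
    change t.1.1 ((P.sg h).1.1 (z.1.1 P.e)) = (P.sg h').1.1 (t.1.1 P.e) at e1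
    rw [hzc, map_smul, map_smul, P.sg_e, hte, map_smul, P.sg_e, smul_smul] at e1
    have hc1 : c = 1 := (mul_eq_right₀ hae).1 (smul_left_injective F P.e_ne e1)
    have e2 := congrArg (fun g : H.SIsom => g.1.1 P.f) ez
    change t.1.1 ((P.sg h).1.1 (z.1.1 P.f)) = (P.sg h').1.1 (t.1.1 P.f) at e2
    rw [hzc, hc1, one_smul, P.sg_f, htf, map_smul, P.sg_f, Frame.pt, map_add, map_add, map_smul, htf, htw, hte,
      smul_smul] at e2
    have e3 : P.pt ((bf⁻¹ * lam) • (w : V)) (bf⁻¹ * (a * ae)) = P.pt w' a' := by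
      have := congrArg (fun x => bf⁻¹ • x) e2
      simp only [smul_add, smul_smul, inv_mul_cancel₀ hbf, inv_mul_cancel_left₀ hbf, one_smul, Frame.pt] at this ⊢
      exact this
    obtain ⟨e4, e5⟩ := P.pt_inj (Submodule.smul_mem _ _ w.2) h'.1 e3
    subst e4
    exact ⟨a', h', e⟩
  have hA : ∀ (μ : F), A (μ • w0) = s μ • A w0 := fun μ => (hs μ).symm
  have hM : ∀ t0 : Fˣ, ∀ ν : F, s ((H.σ t0) * (H.σ t0 / t0) * ν) = s ((H.σ t0) * (H.σ t0 / t0)) * s ν := by
    intro t0
    obtain ⟨t, hte, htf, htw⟩ := exists_torus P h3 w0.2 hw1 t0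
    obtain ⟨t', ht'⟩ := pr_surjective H (α (pr H t))
    have hσ0 : H.σ t0 ≠ 0 := (map_ne_zero H.σ).2 t0.ne_zero
    have hfixR : ∀ v : V, v ≠ 0 → H.h v v = 0 → (R H v).map α.toMonoidHom = R H v →
        ∀ c : F, c ≠ 0 → t.1.1 v = c • v → ∃ d : F, d ≠ 0 ∧ t'.1.1 v = d • v := by
      intro v hv0 hv hR c hc htv
      have h1 : R H (t'.1.1 v) = R H v := by
        rw [← R_map_conj H t' hv, ht']
        conv_lhs => rw [← hR]
        rw [← map_conj_map, R_map_conj H t hv, htv, R_smul H hv hc, hR]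
      obtain ⟨d, hd'⟩ := Submodule.mem_span_singleton.1
        (eq_of_R H hd (H.isom_ne_zero t'.1 hv0) (iso_map H t' hv) hv h1.le)
      exact ⟨d, fun h0 => H.isom_ne_zero t'.1 hv0 (by rw [← hd', h0, zero_smul]), hd'.symm⟩
    obtain ⟨ae, hae, hte'⟩ := hfixR P.e P.e_ne P.he hRe _ t0.ne_zero hte
    obtain ⟨bf, hbf, htf'⟩ := hfixR P.f P.f_ne P.hf hRf _ (inv_ne_zero hσ0) htf
    have hlam : ∀ u : P.W, ∃ lam : F, t'.1.1 u = lam • (u : V) := by
      intro u
      have hm : t'.1.1 u ∈ P.W := by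
        rw [P.mem_W]
        constructor
        · have := H.map_form t'.1 u P.e
          rw [hte', H.smul_right, (P.mem_W.1 u.2).1, mul_eq_zero, or_iff_right ((map_ne_zero H.σ).2 hae)] at this
          exact this
        · have := H.map_form t'.1 u P.f
          rw [htf', H.smul_right, (P.mem_W.1 u.2).2, mul_eq_zero, or_iff_right ((map_ne_zero H.σ).2 hbf)] at this
          exact this
      rcases eq_or_ne u 0 with rfl | hu
      · exact ⟨0, by simp⟩
      · obtain ⟨c, hc⟩ := (finrank_eq_one_iff_of_nonzero' u hu).1 hfr ⟨_, hm⟩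
        exact ⟨c, (congrArg Subtype.val hc).symm⟩
    obtain ⟨lam, hlam⟩ := hlam (A w0)
    have key : ∀ ν : F, A ((H.σ t0 * (H.σ t0 / t0) * ν) • w0) = (bf⁻¹ * lam) • A (ν • w0) := by
      intro ν
      obtain ⟨a, ha⟩ := P.exists_valid (ν • w0 : P.W).2
      have htw' : t.1.1 ((ν • w0 : P.W) : V) = (H.σ t0 / t0) • ((ν • w0 : P.W) : V) := by
        rw [Submodule.coe_smul, map_smul, htw, smul_comm]
      obtain ⟨a1, h1, e1⟩ := hconj ha t _ _ _ t0.ne_zero (inv_ne_zero hσ0) hte htf htw'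
      have hv := hP.valid _ _ ha
      have hlam' : t'.1.1 (A (ν • w0) : V) = lam • (A (ν • w0) : V) := by
        rw [hA, Submodule.coe_smul, map_smul, hlam, smul_comm]
      obtain ⟨a2, h2, e2⟩ := hconj hv t' _ _ _ hae hbf hte' htf' hlam'
      have e3 := congrArg α e1
      rw [map_mul, map_mul, map_inv, ← ht', hP.img _ _ ha hv, e2, hP.img _ _ h1 (hP.valid _ _ h1)] at e3
      have e4 := (P.pr_sg_inj (by omega) e3).1
      rw [inv_inv, ← mul_smul] at e4
      exact (Subtype.ext e4).symm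
    intro ν
    have hψ : s (H.σ t0 * (H.σ t0 / t0)) = bf⁻¹ * lam := by
      have := key 1
      rw [mul_one, one_smul, hA] at this
      exact smul_left_injective F hA0 this
    refine smul_left_injective F hA0 ?_
    show s _ • A w0 = _ • A w0
    rw [← hA, key, hA, smul_smul, hψ]
  have hs_add : ∀ a b, s (a + b) = s a + s b := fun a b => smul_left_injective F hA0 (by
    show s (a + b) • A w0 = (s a + s b) • A w0
    rw [← hA, add_smul, map_add, hA, hA, add_smul])
  have hs_zero : s 0 = 0 := smul_left_injective F hA0 (by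
    show s 0 • A w0 = (0 : F) • A w0
    rw [← hA, zero_smul, map_zero, zero_smul])
  have hs_one : s 1 = 1 := smul_left_injective F hA0 (by
    show s 1 • A w0 = (1 : F) • A w0
    rw [← hA, one_smul, one_smul])
  have hs_neg : ∀ a, s (-a) = -s a := fun a =>
    eq_neg_of_add_eq_zero_left (by rw [← hs_add, neg_add_cancel, hs_zero])
  let S : Subring F :=
    { carrier := {μ | ∀ ν, s (μ * ν) = s μ * s ν}
      one_mem' := fun ν => by rw [one_mul, hs_one, one_mul]
      mul_mem' := fun {a b} ha hb ν => by rw [mul_assoc, ha, hb, ← mul_assoc, ← ha]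
      zero_mem' := fun ν => by rw [zero_mul, hs_zero, zero_mul]
      add_mem' := fun {a b} ha hb ν => by rw [add_mul, hs_add, ha, hb, hs_add, add_mul]
      neg_mem' := fun {a} ha ν => by rw [neg_mul, hs_neg, ha, hs_neg, neg_mul] }
  let L : Subfield F :=
    { S with
      inv_mem' := fun x hx => by
        rcases eq_or_ne x 0 with rfl | h0
        · rw [inv_zero]; exact S.zero_mem
        · have : x⁻¹ = x ^ (Fintype.card F - 2) := by
            refine inv_eq_of_mul_eq_one_right ?_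
            rw [← pow_succ', show Fintype.card F - 2 + 1 = Fintype.card F - 1 by
              have := Fintype.one_lt_card (α := F); omega, FiniteField.pow_card_sub_one_eq_one x h0]
          rw [this]; exact S.pow_mem hx _ }
  have hcardF : Fintype.card F = H.q ^ 2 := by rw [← Nat.card_eq_fintype_card]; exact H.card_field
  let ψ : Fˣ →* Fˣ :=
    { toFun := fun t => Units.map H.σ.toMonoidHom t * (Units.map H.σ.toMonoidHom t * t⁻¹)
      map_one' := by simp
      map_mul' := fun a b => by rw [map_mul, mul_inv]; ac_rfl }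
  have hψker : Nat.card ψ.ker ≤ 3 := by
    have : IsCyclic ψ.ker := Subgroup.isCyclic _
    refine Nat.le_of_dvd (by norm_num) (IsCyclic.exponent_eq_card (α := ψ.ker) ▸ ?_)
    rw [Monoid.exponent_dvd_iff_forall_pow_eq_one]
    rintro ⟨t, ht⟩
    refine Subtype.ext ?_
    have h1 : Units.map H.σ.toMonoidHom t * (Units.map H.σ.toMonoidHom t * t⁻¹) = 1 := ht
    rw [← mul_assoc, mul_inv_eq_one] at h1
    have h2 := congrArg (Units.map H.σ.toMonoidHom) h1
    rw [map_mul] at h2
    have hinv : Units.map H.σ.toMonoidHom (Units.map H.σ.toMonoidHom t) = t := Units.ext (H.conj.invol _)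
    rw [hinv] at h2
    show t ^ 3 = 1
    rw [← h2] at h1
    have : t ^ 4 = t := by rw [show (4 : ℕ) = 2 + 2 from rfl, pow_add, pow_two]; exact h1
    rw [pow_succ, mul_eq_right] at this
    exact this
  have hrange : ∀ t : Fˣ, ((ψ t : Fˣ) : F) ∈ L := by
    intro t ν
    have : ((ψ t : Fˣ) : F) = H.σ t * (H.σ t / t) := by
      show H.σ t * (H.σ t * ((t⁻¹ : Fˣ) : F)) = _
      rw [div_eq_mul_inv, Units.val_inv_eq_inv_val]
    rw [this]
    exact hM t ν
  have hbig : Nat.card ψ.range + 1 ≤ Nat.card L := by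
    have hinj : Function.Injective (fun o : Option ψ.range => (o.elim (0 : L)
        fun x => ⟨((x : Fˣ) : F), by obtain ⟨t, ht⟩ := x.2; rw [← ht]; exact hrange t⟩)) := by
      rintro (_ | x) (_ | y) h
      · rfl
      · exact absurd (congrArg Subtype.val h).symm (y : Fˣ).ne_zero
      · exact absurd (congrArg Subtype.val h) (x : Fˣ).ne_zero
      · exact congrArg some (Subtype.ext (Units.ext (congrArg Subtype.val h)))
    have := Nat.card_le_card_of_injective _ hinj
    rwa [Finite.card_option] at this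
  have hLtop : ∀ x : F, x ∈ L := by
    by_contra hne
    push Not at hne
    obtain ⟨x, hx⟩ := hne
    have hk : 2 ≤ Module.finrank L F := by
      by_contra hk
      have h1 : Module.finrank L F = 1 := by
        have := Module.finrank_pos (R := L) (M := F)
        omega
      obtain ⟨c, hc⟩ := (finrank_eq_one_iff_of_nonzero' (1 : F) one_ne_zero).1 h1 x
      exact hx (by rw [← hc, Subfield.smul_def, smul_eq_mul, mul_one]; exact c.2)
    have h1 : Fintype.card F = Nat.card L ^ Module.finrank L F := by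
      rw [← Nat.card_eq_fintype_card]; exact Module.natCard_eq_pow_finrank
    have h2 : Nat.card L ≤ H.q := by
      refine (pow_le_pow_iff_left₀ (Nat.zero_le _) (Nat.zero_le _) two_ne_zero).1 ?_
      rw [← hcardF, h1]
      exact Nat.pow_le_pow_right Nat.card_pos hk
    have h3 : Nat.card ψ.range * Nat.card ψ.ker = H.q ^ 2 - 1 := by
      rw [← Subgroup.index_ker, Subgroup.index_mul_card, Nat.card_units, Nat.card_eq_fintype_card, hcardF]
    have h4 : H.q ^ 2 - 1 ≤ Nat.card ψ.range * 3 := h3 ▸ Nat.mul_le_mul_left _ hψker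
    have h5 : Nat.card ψ.range + 1 ≤ H.q := hbig.trans h2
    have h6 : H.q * H.q ≤ H.q ^ 2 := le_of_eq (pow_two _).symm
    have h7 : 3 * H.q ≤ H.q * H.q := Nat.mul_le_mul_right _ hq
    omega
  have hs_mul : ∀ a b, s (a * b) = s a * s b := fun a b => hLtop a b
  let τ : F →+* F :=
    { toFun := s, map_one' := hs_one, map_mul' := hs_mul, map_zero' := hs_zero, map_add' := hs_add }
  refine ⟨RingEquiv.ofBijective τ ⟨τ.injective, Finite.surjective_of_injective τ.injective⟩, fun μ w => ?_⟩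
  obtain ⟨c, rfl⟩ := hall w
  rw [smul_smul, hA, hA, smul_smul, hs_mul]
  rfl

include p hd hRe hRf in
/-- A normalised automorphism is induced on points by a semilinear similitude. -/
theorem exists_similitude (hq : Module.finrank F V = 3 → 3 ≤ H.q) :
    ∃ (τ : F ≃+* F) (c : F) (Ψ : V → V) (f : V → V), c ≠ 0 ∧ H.σ c = c ∧ IsPointMap α f ∧
      (∀ x y, Ψ (x + y) = Ψ x + Ψ y) ∧ (∀ (μ : F) x, Ψ (μ • x) = τ μ • Ψ x) ∧
      (∀ x y, H.h (Ψ x) (Ψ y) = c * τ (H.h x y)) ∧
      ∀ x, x ≠ 0 → H.h x x = 0 → f x ∈ Submodule.span F {Ψ x} := by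
  classical
  obtain ⟨f, hf⟩ := exists_pointMap p hd α
  obtain ⟨A, B, hP⟩ := exists_param p hd P hRe hf
  obtain ⟨τ, hτ⟩ : ∃ τ : F ≃+* F, ∀ (μ : F) (w : P.W), A (μ • w) = τ μ • A w := by
    by_cases h3 : Module.finrank F V = 3
    · exact A_torus p hd P hRe hRf h3 (hq h3) hP
    · exact semilinear_of_lines (by rw [P.finrank_W]; omega) A hP.inj (A_line p hd P hRf hf hP)
  have hcomm := comm_conj H τ
  have hAsurj : Function.Surjective A := by
    have : Finite P.W := Module.finite_of_finite F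
    exact Finite.surjective_of_injective hP.inj
  set χ : F → F := fun t => B 0 t with hχ
  have hχ0 : ∀ (w : P.W) (a t : F), P.Valid w a → t + H.σ t = 0 → B w (a + t) = B w a + χ t := by
    intro w a t h ht
    have hv : P.Valid (0 : P.W) t := ⟨zero_mem _, by rw [ZeroMemClass.coe_zero, H.zero_left, neg_zero]; exact ht⟩
    have := hP.mul w 0 a t h hv
    rw [add_zero, ZeroMemClass.coe_zero, H.zero_left, sub_zero, map_zero, ZeroMemClass.coe_zero, H.zero_left,
      sub_zero] at this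
    exact this
  have hIm : ∀ w u : P.W, χ (H.h (w : V) u - H.h (u : V) w) = H.h (A w : V) (A u) - H.h (A u : V) (A w) := by
    intro w u
    obtain ⟨a, ha⟩ := P.exists_valid w.2
    obtain ⟨b, hb⟩ := P.exists_valid u.2
    have h1 := hP.mul w u a b ha hb
    have h2 := hP.mul u w b a hb ha
    rw [add_comm u w] at h2
    have hvv : P.Valid ((w + u : P.W) : V) (b + a - H.h (w : V) u) := by
      have := P.valid_mul hb ha
      rwa [add_comm (u : V) w] at this
    have h3 := hχ0 _ _ (H.h (w : V) u - H.h (u : V) w) hvv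
      (by rw [map_sub, ← H.symm, ← H.symm]; ring)
    rw [show b + a - H.h (w : V) u + (H.h (w : V) u - H.h (u : V) w) = a + b - H.h (u : V) w by ring, h1, h2] at h3
    linear_combination -h3
  have hperp : ∀ w u : P.W, H.h (w : V) u = 0 → H.h (A w : V) (A u) = 0 := by
    intro w u h
    refine real_smul_eq_zero H fun ν => ?_
    obtain ⟨μ, hμ⟩ : ∃ μ : F, τ μ = H.σ ν := ⟨τ.symm (H.σ ν), τ.apply_symm_apply _⟩
    have h1 := hIm w (μ • u)
    rw [hτ, hμ, Submodule.coe_smul, Submodule.coe_smul, H.smul_right, H.smul_left, H.smul_right, H.smul_left,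
      H.conj.invol, H.eq_zero_symm h, h, mul_zero, mul_zero, sub_zero] at h1
    have hχz : χ 0 = 0 := by
      have := hχ0 0 0 0 (by simpa using P.valid_zero) (by simp)
      rw [add_zero] at this
      simpa using this
    rw [hχz] at h1
    rw [map_mul, ← H.symm]
    linear_combination h1
  obtain ⟨b, hb⟩ := (H.restrict P.W P.nondeg_W).exists_orthonormal
  have hb' : ∀ i j, H.h (b i : V) (b j) = if i = j then 1 else 0 := hb
  have hrankW : 0 < Module.finrank F P.W := by rw [P.finrank_W]; omega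
  let i0 : Fin (Module.finrank F P.W) := ⟨0, hrankW⟩
  set c := H.h (A (b i0) : V) (A (b i0)) with hc
  have hdiag : ∀ i, H.h (A (b i) : V) (A (b i)) = c := by
    intro i
    rcases eq_or_ne i i0 with rfl | hi
    · rfl
    have h1 := hperp (b i + b i0) (b i - b i0) (by
      simp only [Submodule.coe_add, Submodule.coe_sub, H.add_left, H.sub_right, hb', hi, hi.symm, if_true, if_false]
      ring)
    simp only [map_add, map_sub, Submodule.coe_add, Submodule.coe_sub, H.add_left, H.sub_right,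
      hperp (b i) (b i0) (by rw [hb', if_neg hi]), hperp (b i0) (b i) (by rw [hb', if_neg hi.symm])] at h1
    linear_combination h1
  have hform : ∀ w u : P.W, H.h (A w : V) (A u) = c * τ (H.h (w : V) u) := by
    intro w u
    have hexp : ∀ v : P.W, A v = ∑ i, τ (b.repr v i) • A (b i) := fun v => by
      conv_lhs => rw [← b.sum_repr v]
      rw [map_sum]
      exact Finset.sum_congr rfl fun i _ => hτ _ _
    have h2 := (H.restrict P.W P.nondeg_W).h_eq_sum b hb w u
    change H.h (w : V) u = ∑ i, b.repr w i * H.σ (b.repr u i) at h2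
    rw [h2, map_sum, Finset.mul_sum, hexp w, hexp u, AddSubmonoidClass.coe_finsetSum,
      AddSubmonoidClass.coe_finsetSum, H.sum_left]
    refine Finset.sum_congr rfl fun i _ => ?_
    rw [H.sum_right, Finset.sum_eq_single i]
    · rw [Submodule.coe_smul, Submodule.coe_smul, H.smul_left, H.smul_right, hdiag, map_mul, hcomm]
      ring
    · intro j _ hj
      rw [Submodule.coe_smul, Submodule.coe_smul, H.smul_left, H.smul_right, hperp _ _ (by rw [hb', if_neg hj.symm]),
        mul_zero, mul_zero]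
    · simp
  have hc0 : c ≠ 0 := by
    intro h0
    have : A (b i0) = 0 := Subtype.ext (P.nondeg_W _ (A (b i0)).2 fun x hx => by
      obtain ⟨u, hu⟩ := hAsurj ⟨x, hx⟩
      rw [show x = ((A u : P.W) : V) by rw [hu], hform, h0, zero_mul])
    exact b.ne_zero i0 (hP.inj (this.trans (map_zero A).symm))
  have hcc : H.σ c = c := H.self_fixed _
  have hχc : ∀ t : F, t + H.σ t = 0 → χ t = c * τ t := by
    intro t ht
    obtain ⟨θ, hθ⟩ := H.conj.exists_trace_one
    have h1 := hIm ((θ * t) • b i0) (b i0)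
    rw [hform, hform, ← mul_sub, ← map_sub, Submodule.coe_smul, H.smul_left, H.smul_right, hb', if_pos rfl,
      mul_one, mul_one, map_mul, eq_neg_of_add_eq_zero_right ht,
      show θ * t - H.σ θ * -t = t by linear_combination t * hθ] at h1
    exact h1
  have hφ : ∀ (w : P.W) (a : F), P.Valid w a → B w a = c * τ a := by
    have hind : ∀ (w : P.W) (a a' : F), P.Valid w a → P.Valid w a' → B w a - c * τ a = B w a' - c * τ a' := by
      intro w a a' h h'
      have ht : a' - a + H.σ (a' - a) = 0 := by rw [map_sub]; linear_combination h'.2 - h.2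
      have := hχ0 w a (a' - a) h ht
      rw [add_sub_cancel, hχc _ ht, map_sub] at this
      rw [this]
      ring
    have hT : ∀ (w : P.W) (a : F), P.Valid w a → (B w a - c * τ a) + H.σ (B w a - c * τ a) = 0 := by
      intro w a h
      have h1 := (hP.valid w a h).2
      rw [hform] at h1
      have h2 := congrArg τ h.2
      rw [map_add, map_neg, hcomm] at h2
      rw [map_sub, map_mul, hcc]
      linear_combination h1 - c * h2
    have hiso : ∀ w : P.W, H.h (w : V) w = 0 → B w 0 - c * τ 0 = 0 := fun w hw => by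
      rw [iso_B p hd P hRf hf hP hw, map_zero, mul_zero, sub_zero]
    intro w a h
    rw [← sub_eq_zero]
    by_cases hw : H.h (w : V) w = 0
    · rw [hind w a 0 h ⟨w.2, by rw [map_zero, add_zero, hw, neg_zero]⟩]
      exact hiso w hw
    obtain ⟨θ, hθ⟩ := exists_not_real H
    -- all non-real multiples
    have key : ∀ μ : F, H.σ μ ≠ μ → ∀ a₁ a₂ : F, P.Valid w a₁ → P.Valid (μ • w : P.W) a₂ →
        B (μ • w) a₂ - c * τ a₂ = τ μ * (B w a₁ - c * τ a₁) := by
      intro μ hμ a₁ a₂ h₁ h₂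
      obtain ⟨a0, h0, h0'⟩ := exists_scaled P (w := w) hμ
      obtain ⟨ν, hν1, hν2⟩ := line_map p hd P hRf hf hP h0 h0'
      have hAw : A w ≠ 0 := fun hz => hw (by rw [hP.inj (hz.trans (map_zero A).symm)]; exact H.zero_left _)
      rw [hτ] at hν1
      obtain rfl : ν = τ μ := (smul_left_injective F hAw hν1).symm
      rw [hind _ _ _ h₂ h0', hind _ _ _ h₁ h0, hν2, map_mul]
      ring
    obtain ⟨a2, h2⟩ := P.exists_valid (θ • w : P.W).2
    have h3 := key θ hθ a a2 h h2
    have h4 := hT _ _ h2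
    rw [h3, map_mul, ← hcomm] at h4
    have h5 := hT w a h
    by_contra h0
    refine hθ (τ.injective ?_)
    generalize B w a - c * τ a = φ at *
    exact mul_right_cancel₀ h0 (show τ (H.σ θ) * φ = τ θ * φ by linear_combination τ (H.σ θ) * h5 - h4)
  let Ψ : V → V := fun x => (c * τ (H.h x P.f)) • P.e + τ (H.h x P.e) • P.f + (A ⟨P.proj x, P.proj_mem x⟩ : V)
  have hΨadd : ∀ x y, Ψ (x + y) = Ψ x + Ψ y := by
    intro x y
    have e : (⟨P.proj (x + y), P.proj_mem _⟩ : P.W) = ⟨P.proj x, P.proj_mem x⟩ + ⟨P.proj y, P.proj_mem y⟩ :=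
      Subtype.ext (by simp only [Submodule.coe_add, Frame.proj, H.add_left]; module)
    simp only [Ψ, e, map_add, Submodule.coe_add, H.add_left]
    module
  have hΨsmul : ∀ (μ : F) x, Ψ (μ • x) = τ μ • Ψ x := by
    intro μ x
    have e : (⟨P.proj (μ • x), P.proj_mem _⟩ : P.W) = μ • ⟨P.proj x, P.proj_mem x⟩ :=
      Subtype.ext (by simp only [Submodule.coe_smul, Frame.proj, H.smul_left]; module)
    simp only [Ψ, e, hτ, Submodule.coe_smul, H.smul_left, map_mul]
    module
  have hΨform : ∀ x y, H.h (Ψ x) (Ψ y) = c * τ (H.h x y) := by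
    intro x y
    have he1 : ∀ u : P.W, H.h (A u : V) P.e = 0 := fun u => (P.mem_W.1 (A u).2).1
    have hf1 : ∀ u : P.W, H.h (A u : V) P.f = 0 := fun u => (P.mem_W.1 (A u).2).2
    have hep : ∀ z, H.h P.e (P.proj z) = 0 := fun z => H.eq_zero_symm (P.mem_W.1 (P.proj_mem z)).1
    have hfp : ∀ z, H.h P.f (P.proj z) = 0 := fun z => H.eq_zero_symm (P.mem_W.1 (P.proj_mem z)).2
    conv_rhs => rw [P.decomp x, P.decomp y]
    simp only [Ψ, H.add_left, H.add_right, H.smul_left, H.smul_right, P.he, P.hf, P.hef, P.hfe, he1, hf1,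
      H.eq_zero_symm (he1 _), H.eq_zero_symm (hf1 _), hep, hfp, (P.mem_W.1 (P.proj_mem x)).1,
      (P.mem_W.1 (P.proj_mem x)).2, hform, map_add, map_mul, hcc, hcomm, map_zero, map_one, mul_zero,
      add_zero, zero_add, mul_one]
    ring
  refine ⟨τ, c, Ψ, f, hc0, hcc, hf, hΨadd, hΨsmul, hΨform, ?_⟩
  have hΨpt : ∀ (w : P.W) (a : F), P.Valid w a → Ψ (P.pt w a) = P.pt (A w : V) (c * τ a) := by
    intro w a h
    have e : (⟨P.proj (P.pt w a), P.proj_mem _⟩ : P.W) = w := Subtype.ext (by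
      show P.proj (P.pt w a) = w
      rw [Frame.proj, P.pt_e h, Frame.pt, H.add_left, H.add_left, H.smul_left, P.hf, P.hef,
        (P.mem_W.1 w.2).2]
      module)
    simp only [Ψ, e, P.pt_e h]
    rw [Frame.pt, Frame.pt, H.add_left, H.add_left, H.smul_left, P.hf, P.hef, (P.mem_W.1 w.2).2, map_one, one_smul,
      mul_one, zero_add, zero_add]
    abel
  have hgen : ∀ x, x ≠ 0 → H.h x x = 0 → H.h x P.e ≠ 0 → f x ∈ Submodule.span F {Ψ x} := by
    intro x hx hxx hxe
    set y := (H.h x P.e)⁻¹ • x with hy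
    have hye : H.h y P.e = 1 := by rw [hy, H.smul_left, inv_mul_cancel₀ hxe]
    have hyy : H.h y y = 0 := by rw [hy, H.smul_left, H.smul_right, hxx, mul_zero, mul_zero]
    have hypt : y = P.pt (P.proj y) (H.h y P.f) := by
      conv_lhs => rw [P.decomp y, hye, one_smul]
      rw [Frame.pt]; abel
    have hval : P.Valid (⟨P.proj y, P.proj_mem y⟩ : P.W) (H.h y P.f) := by
      refine ⟨P.proj_mem y, ?_⟩
      show _ = -H.h (P.proj y) (P.proj y)
      generalize P.proj y = w1, H.h y P.f = a1, P.proj_mem y = hm at hypt ⊢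
      obtain ⟨h1, h2⟩ := P.mem_W.1 hm
      rw [hypt, Frame.pt] at hyy
      simp only [H.add_left, H.add_right, H.smul_left, H.smul_right, P.he, P.hf, P.hef, P.hfe, h1, h2,
        H.eq_zero_symm h1, H.eq_zero_symm h2] at hyy
      linear_combination hyy
    have h1 := pt_map hd P hRf hf hP hval
    rw [hφ _ _ hval, ← hΨpt _ _ hval] at h1
    simp only [← hypt] at h1
    have hy0 : y ≠ 0 := smul_ne_zero (inv_ne_zero hxe) hx
    have hxy : f x ∈ Submodule.span F {f y} := by
      refine eq_of_R H hd (hf.ne x hx hxx) (hf.iso x hx hxx) (hf.iso y hy0 hyy) (le_of_eq ?_)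
      rw [← hf.map x hx hxx, ← hf.map y hy0 hyy, hy, R_smul H hxx (inv_ne_zero hxe)]
    have h2 : f x ∈ Submodule.span F {Ψ y} := Submodule.span_le.2 (Set.singleton_subset_iff.2 h1) hxy
    rw [hy, hΨsmul] at h2
    exact Submodule.span_le.2 (Set.singleton_subset_iff.2
      (Submodule.smul_mem _ _ (Submodule.mem_span_singleton_self _))) h2
  intro x hx hxx
  by_cases hxe : H.h x P.e = 0
  swap
  · exact hgen x hx hxx hxe
  have hΨe : Ψ P.e = c • P.e := by
    have e : (⟨P.proj P.e, P.proj_mem _⟩ : P.W) = 0 := Subtype.ext (by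
      show P.proj P.e = 0
      rw [Frame.proj, P.hef, P.he]; module)
    simp only [Ψ, e, map_zero, ZeroMemClass.coe_zero, P.hef, P.he, map_one, mul_one, zero_smul, add_zero]
  obtain ⟨ae, hae⟩ := Submodule.mem_span_singleton.1 (eq_of_R H hd (hf.ne _ P.e_ne P.he) (hf.iso _ P.e_ne P.he) P.he
    (by rw [← hf.map _ P.e_ne P.he, hRe]))
  have hae0 : ae ≠ 0 := fun h => hf.ne _ P.e_ne P.he (by rw [← hae, h, zero_smul])
  have hΨinj : Function.Injective Ψ := fun u v h => by
    rw [← sub_eq_zero]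
    refine H.nondeg _ fun z => τ.injective (mul_left_cancel₀ hc0 ?_)
    rw [H.sub_right, map_sub, map_zero, mul_sub, ← hΨform, ← hΨform, h, sub_self, mul_zero]
  have hΨsurj : Function.Surjective Ψ := by
    have : Finite V := Module.finite_of_finite F
    exact Finite.surjective_of_injective hΨinj
  have hfxe : H.h (f x) P.e = 0 := by
    have := (hf.perp hd hx hxx P.e_ne P.he).2 hxe
    rw [← hae, H.smul_right, mul_eq_zero, or_iff_right ((map_ne_zero H.σ).2 hae0)] at this
    exact this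
  have hZe : H.h (Ψ x) P.e = 0 := by
    have := hΨform x P.e
    rw [hΨe, H.smul_right, hxe, map_zero, mul_zero, mul_eq_zero, or_iff_right ((map_ne_zero H.σ).2 hc0)] at this
    exact this
  by_contra hn
  by_cases heZ : P.e ∈ Submodule.span F {Ψ x}
  · obtain ⟨d, hd'⟩ := Submodule.mem_span_singleton.1 heZ
    have hd0 : d ≠ 0 := by rintro rfl; rw [zero_smul] at hd'; exact P.e_ne hd'.symm
    have hxspan : x ∈ Submodule.span F {P.e} := by
      refine Submodule.mem_span_singleton.2 ⟨τ.symm (d * c)⁻¹, hΨinj ?_⟩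
      rw [hΨsmul, hΨe, RingEquiv.apply_symm_apply, smul_smul]
      conv_lhs => rw [← hd', smul_smul]
      rw [mul_inv, show d⁻¹ * c⁻¹ * c * d = 1 by field_simp, one_smul]
    obtain ⟨k, rfl⟩ := Submodule.mem_span_singleton.1 hxspan
    have hk0 : k ≠ 0 := fun h => hx (by rw [h, zero_smul])
    have h1 : f (k • P.e) ∈ Submodule.span F {f P.e} := by
      refine eq_of_R H hd (hf.ne _ hx hxx) (hf.iso _ hx hxx) (hf.iso _ P.e_ne P.he) (le_of_eq ?_)
      rw [← hf.map _ hx hxx, ← hf.map _ P.e_ne P.he, R_smul H P.he hk0]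
    refine hn (Submodule.span_le.2 (Set.singleton_subset_iff.2 ?_) h1)
    rw [← hae, show ae • P.e = (ae * d) • Ψ (k • P.e) by rw [mul_smul, hd']]
    exact Submodule.smul_mem _ _ (Submodule.mem_span_singleton_self _)
  obtain ⟨φ1, hφ1, hφ1'⟩ := Submodule.exists_dual_map_eq_bot_of_notMem heZ inferInstance
  obtain ⟨φ2, hφ2, hφ2'⟩ := Submodule.exists_dual_map_eq_bot_of_notMem hn inferInstance
  have hz1 : φ1 (Ψ x) = 0 := by
    have : φ1 (Ψ x) ∈ (Submodule.span F {Ψ x}).map φ1 := Submodule.mem_map_of_mem (Submodule.mem_span_singleton_self _)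
    rwa [hφ1', Submodule.mem_bot] at this
  have hz2 : φ2 (Ψ x) = 0 := by
    have : φ2 (Ψ x) ∈ (Submodule.span F {Ψ x}).map φ2 := Submodule.mem_map_of_mem (Submodule.mem_span_singleton_self _)
    rwa [hφ2', Submodule.mem_bot] at this
  obtain ⟨φ, hφZ, hφe, hφf⟩ : ∃ φ : Module.Dual F V, φ (Ψ x) = 0 ∧ φ P.e ≠ 0 ∧ φ (f x) ≠ 0 := by
    by_cases h1 : φ1 (f x) = 0
    · by_cases h2 : φ2 P.e = 0
      · exact ⟨φ1 + φ2, by simp [hz1, hz2], by simp [h2, hφ1], by simp [h1, hφ2]⟩
      · exact ⟨φ2, hz2, h2, hφ2⟩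
    · exact ⟨φ1, hz1, hφ1, h1⟩
  obtain ⟨v, hv⟩ := H.exists_lin ((φ P.e)⁻¹ • φ)
  have hev : H.h P.e v = 1 := by rw [hv, LinearMap.smul_apply, smul_eq_mul, inv_mul_cancel₀ hφe]
  have hZv : H.h (Ψ x) v = 0 := by rw [hv, LinearMap.smul_apply, hφZ, smul_zero]
  have hfv : H.h (f x) v ≠ 0 := by
    rw [hv, LinearMap.smul_apply, smul_eq_mul]
    exact mul_ne_zero (inv_ne_zero hφe) hφf
  obtain ⟨θ, hθ⟩ := H.conj.exists_trace_one
  set z := v - (θ * H.h v v) • P.e with hz
  have hzz : H.h z z = 0 := by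
    rw [hz]
    simp only [H.sub_left, H.sub_right, H.smul_left, H.smul_right, P.he, hev, H.symm v P.e, map_one, map_mul,
      H.self_fixed]
    linear_combination (-H.h v v) * hθ
  obtain ⟨u, hu⟩ := hΨsurj z
  have huu : H.h u u = 0 := by
    have := hΨform u u
    rw [hu, hzz] at this
    exact τ.injective (by rw [map_zero]; exact (mul_eq_zero.1 this.symm).resolve_left hc0)
  have hxu : H.h x u = 0 := by
    have := hΨform x u
    rw [hu, hz, H.sub_right, H.smul_right, hZv, hZe, mul_zero, sub_zero] at this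
    exact τ.injective (by rw [map_zero]; exact (mul_eq_zero.1 this.symm).resolve_left hc0)
  have hue : H.h u P.e ≠ 0 := by
    intro h0
    have := hΨform u P.e
    rw [hu, hΨe, H.smul_right, h0, map_zero, mul_zero, mul_eq_zero, or_iff_right ((map_ne_zero H.σ).2 hc0), hz,
      H.sub_left, H.smul_left, P.he, mul_zero, sub_zero, H.symm, hev, map_one] at this
    exact one_ne_zero this
  have hu0 : u ≠ 0 := fun h => hue (by rw [h, H.zero_left])
  obtain ⟨d, hd'⟩ := Submodule.mem_span_singleton.1 (hgen u hu0 huu hue)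
  have h1 := (hf.perp hd hx hxx hu0 huu).2 hxu
  have hd0 : d ≠ 0 := fun h => hf.ne u hu0 huu (by rw [← hd', h, zero_smul])
  rw [← hd', hu, H.smul_right, mul_eq_zero, or_iff_right ((map_ne_zero H.σ).2 hd0), hz, H.sub_right, H.smul_right,
    hfxe, mul_zero, sub_zero] at h1
  exact hfv h1

include p hd in
/-- Every automorphism is induced by a semilinear isometry. -/
theorem exists_semilinear (hq : Module.finrank F V = 3 → 3 ≤ H.q) (β : MulAut (Pu H)) :
    ∃ (τ : F ≃+* F) (Ψ : V → V), (∀ x y, Ψ (x + y) = Ψ x + Ψ y) ∧ (∀ (μ : F) x, Ψ (μ • x) = τ μ • Ψ x) ∧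
      (∀ x y, H.h (Ψ x) (Ψ y) = τ (H.h x y)) ∧
      ∀ g g' : H.SIsom, (∀ x, g'.1.1 (Ψ x) = Ψ (g.1.1 x)) → β (pr H g) = pr H g' := by
  classical
  obtain ⟨e, he0, he⟩ := H.exists_isotropic_of_two_le (by omega)
  obtain ⟨f₁, hef, hff⟩ := H.exists_hyperbolic he0 he
  let P : Frame H := ⟨e, f₁, he, hff, by rw [H.symm, hef, map_one]⟩
  obtain ⟨f0, hf0⟩ := exists_pointMap p hd β
  have he1 := hf0.ne e he0 he
  have he1' := hf0.iso e he0 he
  obtain ⟨g1, hg1⟩ := (H.isoPt_pretransitive).exists_smul_eq (H.isoMk _ he1 he1') (H.isoMk e he0 he)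
  rw [HermSpace.smul_isoMk, HermSpace.isoMk_eq_iff] at hg1
  obtain ⟨a1, ha1⟩ := hg1
  have hq1 : H.h e (g1.1.1 (f0 P.f)) ≠ 0 := by
    intro h0
    have h1 : H.h (f0 P.e) (f0 P.f) = 0 := by
      rw [← H.map_form g1.1]
      show H.h (g1.1.1 (f0 e)) _ = 0
      rw [← ha1, H.smul_left, h0, mul_zero]
    have := (hf0.perp hd P.e_ne P.he P.f_ne P.hf).1 h1
    rw [P.hef] at this
    exact one_ne_zero this
  obtain ⟨g2, hg2, ⟨a2, ha2⟩, b2, hb2⟩ := H.exists_SIsom_map_nonorth he
    (iso_map H g1 (hf0.iso _ P.f_ne P.hf)) P.hf hq1 (by rw [show H.h e P.f = 1 from P.hef]; exact one_ne_zero)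
  set g0 : H.SIsom := ⟨g2, hg2⟩ * g1 with hg0
  let α : MulAut (Pu H) := MulAut.conj (pr H g0) * β
  have hmap : ∀ v, v ≠ 0 → H.h v v = 0 → (R H v).map α.toMonoidHom = R H (g0.1.1 (f0 v)) := fun v hv hvv => by
    rw [← R_map_conj H g0 (hf0.iso v hv hvv), ← hf0.map v hv hvv, Subgroup.map_map]
    rfl
  have hge : g0.1.1 (f0 e) = (a1 * a2) • e := by
    show g2.1 (g1.1.1 (f0 e)) = _
    rw [← ha1, map_smul, ha2, smul_smul]
  have hgf : g0.1.1 (f0 P.f) = b2 • P.f := hb2
  have hRe : (R H P.e).map α.toMonoidHom = R H P.e := by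
    rw [hmap _ P.e_ne P.he]
    show R H (g0.1.1 (f0 e)) = R H e
    rw [hge, R_smul H he (fun h => H.isom_ne_zero g0.1 he1 (by rw [hge, h, zero_smul]))]
  have hRf : (R H P.f).map α.toMonoidHom = R H P.f := by
    rw [hmap _ P.f_ne P.hf, hgf, R_smul H P.hf (fun h => H.isom_ne_zero g0.1 (hf0.ne _ P.f_ne P.hf)
      (by rw [hgf, h, zero_smul]))]
  obtain ⟨τ, c, Ψ0, f, hc, hcc, hf, hadd, hsmul, hform, hpts⟩ := exists_similitude p hd P hRe hRf hq
  obtain ⟨κ, hκ⟩ := H.conj.norm_surjective (a := c⁻¹) (by rw [map_inv₀, hcc])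
  have hκ0 : κ ≠ 0 := fun h => inv_ne_zero hc (by rw [← hκ, h, zero_mul])
  refine ⟨τ, fun x => (g0⁻¹).1.1 (κ • Ψ0 x), fun x y => by simp [hadd], fun μ x => ?_, fun x y => ?_, ?_⟩
  · show (g0⁻¹).1.1 (κ • Ψ0 (μ • x)) = τ μ • (g0⁻¹).1.1 (κ • Ψ0 x)
    rw [hsmul, smul_comm, map_smul]
  · show H.h ((g0⁻¹).1.1 (κ • Ψ0 x)) ((g0⁻¹).1.1 (κ • Ψ0 y)) = _
    rw [H.map_form, H.smul_left, H.smul_right, hform, ← mul_assoc, ← mul_assoc, hκ, inv_mul_cancel₀ hc, one_mul]
  intro g g' hgg
  set g'' := g0 * g' * g0⁻¹ with hg''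
  have hg''Ψ : ∀ x, g''.1.1 (Ψ0 x) = Ψ0 (g.1.1 x) := by
    intro x
    have h1 : g'.1.1 ((g0⁻¹).1.1 (κ • Ψ0 x)) = (g0⁻¹).1.1 (κ • Ψ0 (g.1.1 x)) := hgg x
    have h2 := congrArg (g0.1.1) h1
    change g0.1.1 (g'.1.1 ((g0.1⁻¹).1 (κ • Ψ0 x))) = g0.1.1 ((g0.1⁻¹).1 (κ • Ψ0 (g.1.1 x))) at h2
    rw [H.apply_inv_self] at h2
    rw [map_smul, map_smul, map_smul] at h2
    exact smul_right_injective V hκ0 h2
  obtain ⟨t, ht⟩ := pr_surjective H (α (pr H g))
  have hΨne : ∀ x, x ≠ 0 → Ψ0 x ≠ 0 := by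
    intro x hx h0
    refine hx (H.ext_of_forall fun z => τ.injective (mul_left_cancel₀ hc ?_))
    rw [← hform, h0, H.zero_right, H.zero_right, map_zero, mul_zero]
  have hΨiso : ∀ x, H.h x x = 0 → H.h (Ψ0 x) (Ψ0 x) = 0 := fun x hx => by rw [hform, hx, map_zero, mul_zero]
  have hRΨ : ∀ x, x ≠ 0 → H.h x x = 0 → (R H x).map α.toMonoidHom = R H (Ψ0 x) := by
    intro x hx hxx
    obtain ⟨d, hd'⟩ := Submodule.mem_span_singleton.1 (hpts x hx hxx)
    rw [hf.map x hx hxx, ← hd', R_smul H (hΨiso x hxx) (fun h => hf.ne x hx hxx (by rw [← hd', h, zero_smul]))]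
  have hfix : ∀ x, x ≠ 0 → H.h x x = 0 → R H (t.1.1 (Ψ0 x)) = R H (g''.1.1 (Ψ0 x)) := by
    intro x hx hxx
    rw [hg''Ψ, ← hRΨ _ (H.isom_ne_zero g.1 hx) (iso_map H g hxx), ← R_map_conj H g hxx, map_conj_map,
      hRΨ x hx hxx, ← ht, R_map_conj H t (hΨiso x hxx)]
  have hsurj : Function.Surjective Ψ0 := by
    have : Finite V := Module.finite_of_finite F
    refine Finite.surjective_of_injective fun u v h => ?_
    refine H.ext_of_forall fun z => τ.injective (mul_left_cancel₀ hc ?_)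
    rw [← hform, ← hform, h]
  have hcen : t⁻¹ * g'' ∈ Subgroup.center H.SIsom := by
    refine H.mem_center_of_fixes_isoPts (by omega) _ fun q => ?_
    induction q using H.isoPt_ind with | h y hy hyy => ?_
    rw [HermSpace.smul_isoMk, HermSpace.isoMk_eq_iff]
    obtain ⟨x, rfl⟩ := hsurj y
    have hx : x ≠ 0 := by
      rintro rfl
      exact hy (by have := hsmul 0 0; rwa [zero_smul, map_zero, zero_smul] at this)
    have hxx : H.h x x = 0 := τ.injective (by
      rw [map_zero]; exact (mul_eq_zero.1 ((hform x x).symm.trans hyy)).resolve_left hc)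
    obtain ⟨k, hk⟩ := Submodule.mem_span_singleton.1
      (eq_of_R H hd (H.isom_ne_zero g''.1 hy) (iso_map H g'' hyy) (iso_map H t hyy) (hfix x hx hxx).ge)
    refine ⟨k, ?_⟩
    show k • Ψ0 x = (t.1⁻¹).1 (g''.1.1 (Ψ0 x))
    rw [← hk, map_smul, H.inv_apply_self]
  have h1 : α (pr H g) = pr H g'' := by
    rw [← ht]
    exact ((pr_eq_iff H).2 ⟨_, hcen, mul_inv_cancel_left t g''⟩)
  have h2 : pr H g0 * β (pr H g) * (pr H g0)⁻¹ = pr H g0 * pr H g' * (pr H g0)⁻¹ := by
    show α (pr H g) = _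
    rw [h1, hg'', map_mul, map_mul, map_inv]
  exact mul_left_cancel (mul_right_cancel h2)

end Cfsg.Lib.Unitary
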