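import Cfsg.Agent.Known.Unit.Basic
import Cfsg.Agent.Fusion.PSU.Radical
import Cfsg.Agent.Fusion.PSU.Transfer

/-!
Automorphisms of `PSU` permute the root groups: they are the centres of the Sylow subgroups of the characteristic.
-/

set_option autoImplicit false
set_option linter.unusedSectionVars false

namespace Cfsg.Lib.Unitary

open Matrix Cfsg.Lib.Classical Cfsg.Lib.Fusion.PSU

universe u v

variable {F : Type u} [Field F] [Fintype F]

/-- The anti-diagonal form. -/
noncomputable def antiH {σ : F →+* F} (hσ : IsConj σ) (n : ℕ) : HermSpace F (Fin n → F) where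
  σ := σ
  h := antiForm σ
  conj := hσ
  add_left x y z := by simp [antiForm, add_mul, Finset.sum_add_distrib]
  smul_left c x z := by simp [antiForm, Finset.mul_sum, mul_assoc]
  symm := antiForm_symm hσ
  nondeg v hv := by
    classical
    funext i
    have := hv (Pi.single i.rev 1)
    rw [antiForm, Finset.sum_eq_single i.rev (fun j _ hj => by simp [hj]) (by simp)] at this
    simpa [hσ.eq_zero, Fin.rev_rev] using this

variable {V : Type v} [AddCommGroup V] [Module F V] [FiniteDimensional F V] (H : HermSpace F V)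

/-- Anti-diagonal matrices as special isometries. -/
noncomputable def fromAnti {n : ℕ} (e : (Fin n → F) ≃ₗ[F] V) (he : ∀ x y, H.h (e x) (e y) = antiForm H.σ x y) :
    antiSU n H.conj →* H.SIsom where
  toFun g := ⟨⟨e.symm.trans ((Matrix.toLin'OfInv (show mat g⁻¹ * mat g = 1 by rw [← mat_mul, inv_mul_cancel, mat_one])
      (show mat g * mat g⁻¹ = 1 by rw [← mat_mul, mul_inv_cancel, mat_one])).trans e), fun x y => by
        show H.h (e (mat g *ᵥ e.symm x)) (e (mat g *ᵥ e.symm y)) = _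
        rw [he, (adj_mul_eq_one_iff H.conj (mat g)).1 (adj_mul_self g), ← he, e.apply_symm_apply,
          e.apply_symm_apply]⟩, by
      rw [HermSpace.mem_SIsom]
      refine Units.ext ?_
      rw [LinearEquiv.coe_det, Units.val_one]
      show LinearMap.det ((e : (Fin n → F) →ₗ[F] V) ∘ₗ (Matrix.toLin' (mat g)) ∘ₗ (e.symm : V →ₗ[F] Fin n → F)) = 1
      rw [LinearMap.det_conj, LinearMap.det_toLin', det_mat]⟩
  map_one' := Subtype.ext (H.isom_ext fun x => by
    show e (mat (1 : antiSU n H.conj) *ᵥ e.symm x) = x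
    rw [mat_one, one_mulVec, e.apply_symm_apply])
  map_mul' a b := Subtype.ext (H.isom_ext fun x => by
    show e (mat (a * b) *ᵥ e.symm x) = e (mat a *ᵥ e.symm (e (mat b *ᵥ e.symm x)))
    rw [e.symm_apply_apply, mulVec_mulVec, mat_mul])

theorem fromAnti_apply {n : ℕ} (e : (Fin n → F) ≃ₗ[F] V) (he : ∀ x y, H.h (e x) (e y) = antiForm H.σ x y)
    (g : antiSU n H.conj) (x : V) : (fromAnti H e he g).1.1 x = e (mat g *ᵥ e.symm x) := rfl

theorem fromAnti_surjective {n : ℕ} (e : (Fin n → F) ≃ₗ[F] V) (he : ∀ x y, H.h (e x) (e y) = antiForm H.σ x y) :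
    Function.Surjective (fromAnti H e he) := by
  intro s
  set A := LinearMap.toMatrix' ((e.symm : V →ₗ[F] Fin n → F) ∘ₗ (s.1.1 : V →ₗ[F] V) ∘ₗ (e : (Fin n → F) →ₗ[F] V))
    with hA
  have hAx : ∀ x, A *ᵥ x = e.symm (s.1.1 (e x)) := fun x => by rw [hA, LinearMap.toMatrix'_mulVec]; rfl
  have hdet : A.det = 1 := by
    rw [hA, LinearMap.det_toMatrix']
    have := LinearMap.det_conj (s.1.1 : V →ₗ[F] V) e.symm
    rw [LinearEquiv.symm_symm] at this
    rw [this, ← LinearEquiv.coe_det, (HermSpace.mem_SIsom H).1 s.2, Units.val_one]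
  refine ⟨mk A ((adj_mul_eq_one_iff H.conj A).2 fun x y => ?_) hdet, Subtype.ext (H.isom_ext fun x => ?_)⟩
  · rw [hAx, hAx, ← he, e.apply_symm_apply, e.apply_symm_apply, H.map_form, he]
  · rw [fromAnti_apply, mat_mk, hAx, e.apply_symm_apply, e.apply_symm_apply]

include H in
theorem finite_V : Finite V := Module.finite_of_finite F

instance finite_SIsom : Finite H.SIsom := by
  have : Finite V := Module.finite_of_finite F
  have : Finite (V ≃ₗ[F] V) := Finite.of_injective (fun f => (f : V → V)) DFunLike.coe_injective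
  infer_instance

variable (p : ℕ) [Fact p.Prime] [CharP F p]

/-- A Sylow subgroup with centre a root group. -/
theorem exists_sylow_root (hd : 2 ≤ Module.finrank F V) :
    ∃ (S : Sylow p H.SIsom) (e0 : V) (he0 : H.h e0 e0 = 0), e0 ≠ 0 ∧
      ∀ z, z ∈ H.rootGroup he0 ↔ z ∈ (S : Subgroup H.SIsom) ∧ ∀ u ∈ (S : Subgroup H.SIsom), z * u = u * z := by
  classical
  obtain ⟨n, hn⟩ : ∃ n, Module.finrank F V = n := ⟨_, rfl⟩
  obtain ⟨e, he⟩ := (antiH H.conj n).exists_isometry H rfl (by rw [Module.finrank_fin_fun, hn])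
  replace he : ∀ x y, H.h (e x) (e y) = antiForm H.σ x y := he
  have hsurj := fromAnti_surjective H e he
  obtain ⟨Q, hQ⟩ := exists_sylow (F := F) (n := n) (hσ := H.conj) p
  let o : Fin n := ⟨0, by omega⟩
  have hoo : o < o.rev := Fin.lt_def.2 (by simp [o]; omega)
  set δ0 : Fin n → F := Pi.single o 1 with hδ0
  have hBδ : ∀ x, antiForm H.σ x δ0 = x o.rev := fun x => by
    rw [antiForm, Finset.sum_eq_single o.rev]
    · simp [hδ0, Fin.rev_rev]
    · intro j _ hj; simp [hδ0, show j.rev ≠ o from fun h => hj (by rw [← h, Fin.rev_rev])]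
    · simp
  have he0 : H.h (e δ0) (e δ0) = 0 := by rw [he, hBδ]; simp [hδ0, hoo.ne']
  have hxL : ∀ (c : F) (hc : c + H.σ c = 0), fromAnti H e he (xL o hoo c hc) = tr H he0 hc := by
    intro c hc
    refine Subtype.ext (H.isom_ext fun x => ?_)
    rw [fromAnti_apply, tr_apply]
    conv_rhs => rw [← e.apply_symm_apply x, he, hBδ, e.apply_symm_apply, ← map_smul]
    conv_rhs => arg 1; rw [← e.apply_symm_apply x]
    rw [← map_add]
    congr 1
    funext a
    have hx0 : ∀ y, mat (xL (hσ := H.conj) o hoo c hc) a y =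
        (1 : Matrix (Fin n) (Fin n) F) a y + if a = o ∧ y = o.rev then c else 0 := fun y => by
      rw [xL, mat_emb, embMat_apply]
      simp [Fin.sum_univ_two, long2, mat_mk, pair, RevEmb.ofTuple]
    simp only [mulVec, dotProduct, hx0, add_mul, Finset.sum_add_distrib, Matrix.one_apply, ite_mul, one_mul,
      zero_mul, ite_and, Pi.add_apply, Pi.smul_apply, hδ0, Pi.single_apply, smul_eq_mul]
    by_cases ha : a = o <;> simp [ha]
  refine ⟨Q.mapSurjective hsurj, e δ0, he0, fun h => ?_, fun z => ?_⟩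
  · rw [LinearEquiv.map_eq_zero_iff] at h
    simpa [hδ0] using congrFun h o
  have hmem : ∀ w, w ∈ (Q.mapSurjective hsurj : Subgroup H.SIsom) ↔ ∃ u ∈ sylU n H.conj, fromAnti H e he u = w := by
    intro w
    rw [← hQ]
    exact Subgroup.mem_map
  have hinj : Function.Injective (fromAnti H e he) := by
    intro a b h
    refine mat_injective (Matrix.toLin'.injective (LinearMap.ext fun x => ?_))
    have h1 := congrArg (fun g : H.SIsom => e.symm (g.1.1 (e x))) h
    simpa [fromAnti_apply, Matrix.toLin'_apply] using h1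
  constructor
  · rintro ⟨c, hc, hz⟩
    obtain rfl : z = tr H he0 hc := Subtype.ext hz
    refine ⟨(hmem _).2 ⟨_, xL_mem o hoo c hc, hxL c hc⟩, fun w hw => ?_⟩
    obtain ⟨u, hu, rfl⟩ := (hmem w).1 hw
    have hfix : (fromAnti H e he u).1.1 (e δ0) = e δ0 := by
      rw [fromAnti_apply, e.symm_apply_apply]
      congr 1
      funext a
      rw [hδ0, mulVec_single_one, Matrix.col_apply, mem_sylU.1 hu a o (Fin.le_def.2 (Nat.zero_le _))]
      simp [Pi.single_apply]
    refine (mul_inv_eq_iff_eq_mul.1 ((tr_conj H _ he0 hc).trans ?_)).symm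
    exact Subtype.ext (H.uT_congr (iso_map H _ he0) he0 hfix hc)
  · rintro ⟨hz, hc⟩
    obtain ⟨u, hu, rfl⟩ := (hmem z).1 hz
    obtain ⟨c, hc', rfl⟩ := exists_eq_xL (e := o) rfl hoo hu fun r hr => hinj (by
      rw [map_mul, map_mul]; exact hc _ ((hmem _).2 ⟨r, hr, rfl⟩))
    rw [hxL]
    exact ⟨c, hc', rfl⟩

theorem dvd_q : p ∣ H.q := by
  obtain ⟨k, -, hk⟩ := FiniteField.card F p
  refine (Fact.out : p.Prime).dvd_of_dvd_pow (n := 2) ?_
  rw [← H.card_field, Nat.card_eq_fintype_card, hk]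
  exact dvd_pow_self p k.2.ne'

theorem center_p_eq_one (hd : 2 ≤ Module.finrank F V) {z : H.SIsom} (hz : z ∈ Subgroup.center H.SIsom) {k : ℕ}
    (hk : z ^ p ^ k = 1) : z = 1 := by
  have h1 : z ^ Nat.gcd (Module.finrank F V) (H.q + 1) = 1 := by
    rw [← H.card_center_SIsom hd]
    exact congrArg Subtype.val (pow_card_eq_one' (G := Subgroup.center H.SIsom) (x := ⟨z, hz⟩))
  have h2 : orderOf z ∣ H.q + 1 := (orderOf_dvd_of_pow_eq_one h1).trans (Nat.gcd_dvd_right _ _)
  have hcop : Nat.Coprime (p ^ k) (H.q + 1) := Nat.Coprime.pow_left _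
    ((Nat.Prime.coprime_iff_not_dvd Fact.out).2 fun h =>
      (Fact.out : p.Prime).ne_one (Nat.dvd_one.1 ((Nat.dvd_add_right (dvd_q H p)).1 h)))
  exact orderOf_eq_one_iff.1 (Nat.eq_one_of_dvd_coprimes hcop (orderOf_dvd_of_pow_eq_one hk) h2)

/-- The centre of a subgroup. -/
def zc {G : Type*} [Group G] (S : Subgroup G) : Subgroup G := S ⊓ Subgroup.centralizer (S : Set G)

theorem zc_map {G K : Type*} [Group G] [Group K] (e : G ≃* K) (S : Subgroup G) :
    zc (S.map e.toMonoidHom) = (zc S).map e.toMonoidHom := by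
  ext y
  constructor
  · rintro ⟨⟨x, hx, rfl⟩, hc⟩
    refine ⟨x, ⟨hx, fun s hs => e.injective ?_⟩, rfl⟩
    rw [map_mul, map_mul]
    exact hc _ ⟨s, hs, rfl⟩
  · rintro ⟨x, ⟨hx, hc⟩, rfl⟩
    refine ⟨⟨x, hx, rfl⟩, ?_⟩
    rintro _ ⟨s, hs, rfl⟩
    show e s * e x = e x * e s
    rw [← map_mul, ← map_mul, hc s hs]

include p in
/-- Automorphisms permute the root groups. -/
theorem R_map_aut (hd : 3 ≤ Module.finrank F V) (α : MulAut (Pu H)) {v : V} (hv0 : v ≠ 0) (hv : H.h v v = 0) :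
    ∃ w : V, w ≠ 0 ∧ H.h w w = 0 ∧ (R H v).map α.toMonoidHom = R H w := by
  classical
  have : Finite V := Module.finite_of_finite F
  obtain ⟨S, e0, he0, he0n, hS⟩ := exists_sylow_root H p (by omega)
  let P : Sylow p (Pu H) := S.mapSurjective (pr_surjective H)
  have hP : (P : Subgroup (Pu H)) = (S : Subgroup H.SIsom).map (pr H) := rfl
  have hz : zc (P : Subgroup (Pu H)) = R H e0 := by
    rw [hP]
    rw [R_eq H he0]
    ext x
    constructor
    · rintro ⟨⟨z, hz, rfl⟩, hc⟩
      refine ⟨z, (hS z).2 ⟨hz, fun u hu => ?_⟩, rfl⟩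
      have h : pr H (z * u) = pr H (u * z) := by
        rw [map_mul, map_mul]; exact (hc _ ⟨u, hu, rfl⟩).symm
      obtain ⟨c, hcc, e⟩ := (pr_eq_iff H).1 h
      obtain rfl : c = (z * u)⁻¹ * (u * z) := eq_inv_mul_of_mul_eq e
      obtain ⟨k, hk⟩ := S.2 ⟨_, mul_mem (inv_mem (mul_mem hz hu)) (mul_mem hu hz)⟩
      exact inv_mul_eq_one.1 (center_p_eq_one H p (by omega) hcc (k := k) (congrArg Subtype.val hk))
    · rintro ⟨z, hz, rfl⟩
      obtain ⟨h1, h2⟩ := (hS z).1 hz
      refine ⟨⟨z, h1, rfl⟩, ?_⟩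
      rintro _ ⟨u, hu, rfl⟩
      show pr H u * pr H z = pr H z * pr H u
      rw [← map_mul, ← map_mul, h2 u hu]
  let P' : Sylow p (Pu H) := P.mapSurjective (f := α.toMonoidHom) α.surjective
  obtain ⟨y, hy⟩ := MulAction.exists_smul_eq (Pu H) P P'
  have hy' : (P : Subgroup (Pu H)).map (MulAut.conj y).toMonoidHom = (P : Subgroup (Pu H)).map α.toMonoidHom := by
    have := congrArg (fun T : Sylow p (Pu H) => (T : Subgroup (Pu H))) hy
    simp only [Sylow.coe_subgroup_smul] at this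
    exact this
  obtain ⟨g, rfl⟩ := pr_surjective H y
  have he : (R H e0).map α.toMonoidHom = R H (g.1.1 e0) := by
    rw [← R_map_conj H g he0, ← hz, ← zc_map α, ← zc_map (MulAut.conj (pr H g)), hy']
  obtain ⟨h, hh⟩ := (H.isoPt_pretransitive).exists_smul_eq (H.isoMk e0 he0n he0) (H.isoMk v hv0 hv)
  rw [HermSpace.smul_isoMk, HermSpace.isoMk_eq_iff] at hh
  obtain ⟨a, ha⟩ := hh
  have ha0 : a ≠ 0 := by
    rintro rfl
    rw [zero_smul] at ha
    exact H.isom_ne_zero h.1 he0n ha.symm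
  obtain ⟨h', hh'⟩ := pr_surjective H (α (pr H h))
  refine ⟨h'.1.1 (g.1.1 e0), H.isom_ne_zero h'.1 (H.isom_ne_zero g.1 he0n), iso_map H _ (iso_map H g he0), ?_⟩
  rw [← R_smul H hv ha0, ha, ← R_map_conj H h he0, ← R_map_conj H h' (iso_map H g he0), ← he, Subgroup.map_map,
    Subgroup.map_map]
  congr 1
  refine MonoidHom.ext fun z => ?_
  show α (pr H h * z * (pr H h)⁻¹) = pr H h' * α z * (pr H h')⁻¹
  rw [hh', map_mul, map_mul, map_inv]

end Cfsg.Lib.Unitary
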